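import Cfsg.Agent.DihProd.Local

/-!
A Sylow 2-subgroup with two direct factors: coordinates, complements given by graphs of homomorphisms
into the centre of the other factor, extremal elements.
-/

set_option autoImplicit false
set_option linter.unusedSectionVars false
set_option linter.style.haveILetI false

namespace CfsgLib.SDProd

open Subgroup

universe u

variable {G : Type u} [Group G]

/-- A factorisation of `S` into two commuting subgroups. -/
structure Pair [Finite G] (S : Sylow 2 G) where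
  /-- the first factor -/
  E : Subgroup G
  /-- the second factor -/
  F : Subgroup G
  hp : Cfsg.IsInternalDirectProduct E F (S : Subgroup G)

/-- The homomorphism with the given kernel of index two and the given value of order at most two. -/
theorem exists_sign {D : Subgroup G} {K : Subgroup D} (hK : K.index = 2) {e : G} (he : e * e = 1) :
    ∃ φ : D →* G, ∀ d : D, (d ∈ K → φ d = 1) ∧ (d ∉ K → φ d = e) := by
  classical
  refine ⟨MonoidHom.mk' (fun d => if d ∈ K then 1 else e) fun a b => ?_, fun d => ⟨fun h => if_pos h,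
    fun h => if_neg h⟩⟩
  by_cases ha : a ∈ K <;> by_cases hb : b ∈ K <;> simp [mul_mem_iff_of_index_two hK, ha, hb, he]

variable [Finite G] {S : Sylow 2 G}

namespace Pair

variable (P : Pair S)

theorem leE {a : G} (ha : a ∈ P.E) : a ∈ (S : Subgroup G) := P.hp.1 ha

theorem leF {b : G} (hb : b ∈ P.F) : b ∈ (S : Subgroup G) := P.hp.2.1 hb

theorem comm {a b : G} (ha : a ∈ P.E) (hb : b ∈ P.F) : Commute a b := P.hp.2.2.1 a ha b hb

theorem eq_one {x : G} (h1 : x ∈ P.E) (h2 : x ∈ P.F) : x = 1 :=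
  mem_bot.1 (P.hp.2.2.2.1 ▸ mem_inf.2 ⟨h1, h2⟩)

/-- The factors in the other order. -/
def swap : Pair S where
  E := P.F
  F := P.E
  hp := ⟨P.hp.2.1, P.hp.1, fun a ha b hb => (P.comm hb ha).symm.eq, by rw [inf_comm]; exact P.hp.2.2.2.1,
    by rw [sup_comm]; exact P.hp.2.2.2.2⟩

theorem mem {a b : G} (ha : a ∈ P.E) (hb : b ∈ P.F) : a * b ∈ (S : Subgroup G) :=
  mul_mem (P.leE ha) (P.leF hb)

theorem mem_sup {K₁ K₂ : Subgroup G} (h₁ : K₁ ≤ P.E) (h₂ : K₂ ≤ P.F) {x : G} :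
    x ∈ K₁ ⊔ K₂ ↔ ∃ a ∈ K₁, ∃ b ∈ K₂, x = a * b := by
  have hn : K₂ ≤ normalizer (K₁ : Set G) := le_trans (fun b hb => mem_centralizer_iff.2 fun a ha =>
    (P.comm (h₁ ha) (h₂ hb)).eq) (centralizer_le_normalizer _)
  rw [← SetLike.mem_coe, coe_mul_of_right_le_normalizer_left _ _ hn, Set.mem_mul]
  exact ⟨fun ⟨a, ha, b, hb, e⟩ => ⟨a, ha, b, hb, e.symm⟩, fun ⟨a, ha, b, hb, e⟩ => ⟨a, ha, b, hb, e.symm⟩⟩

theorem split {x : G} (hx : x ∈ (S : Subgroup G)) : ∃ a ∈ P.E, ∃ b ∈ P.F, x = a * b := by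
  rw [← P.hp.2.2.2.2] at hx
  exact (P.mem_sup le_rfl le_rfl).1 hx

theorem uniq {a a' b b' : G} (ha : a ∈ P.E) (ha' : a' ∈ P.E) (hb : b ∈ P.F) (hb' : b' ∈ P.F)
    (h : a * b = a' * b') : a = a' ∧ b = b' := by
  have h1 : a'⁻¹ * a = b' * b⁻¹ := by
    rw [eq_mul_inv_iff_mul_eq, mul_assoc, h, inv_mul_cancel_left]
  have h2 : a'⁻¹ * a = 1 := P.eq_one (mul_mem (inv_mem ha') ha) (h1 ▸ mul_mem hb' (inv_mem hb))
  obtain rfl := (inv_mul_eq_one.1 h2).symm
  exact ⟨rfl, mul_left_cancel h⟩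

theorem mul_mul {a a' b b' : G} (ha' : a' ∈ P.E) (hb : b ∈ P.F) :
    a * b * (a' * b') = a * a' * (b * b') :=
  (P.comm ha' hb).symm.mul_mul_mul_comm a b'

theorem comm_iff {a a' b b' : G} (ha : a ∈ P.E) (ha' : a' ∈ P.E) (hb : b ∈ P.F) (hb' : b' ∈ P.F) :
    Commute (a * b) (a' * b') ↔ Commute a a' ∧ Commute b b' := by
  constructor
  · intro h
    have h' : a * a' * (b * b') = a' * a * (b' * b) := by
      rw [← P.mul_mul ha' hb, ← P.mul_mul ha hb']; exact h.eq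
    exact P.uniq (mul_mem ha ha') (mul_mem ha' ha) (mul_mem hb hb') (mul_mem hb' hb) h'
  · rintro ⟨h1, h2⟩
    show a * b * (a' * b') = a' * b' * (a * b)
    rw [P.mul_mul ha' hb, P.mul_mul ha hb', h1.eq, h2.eq]

theorem sq_eq_one {a b : G} (ha : a ∈ P.E) (hb : b ∈ P.F) (h : a * b * (a * b) = 1) :
    a * a = 1 ∧ b * b = 1 :=
  P.uniq (mul_mem ha ha) (one_mem _) (mul_mem hb hb) (one_mem _) (by rw [← P.mul_mul ha hb, h, mul_one])

theorem isCentralIn {a b : G} (ha : a ∈ P.E) (hb : b ∈ P.F) (hac : ∀ q ∈ P.E, Commute q a)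
    (hbc : ∀ q ∈ P.F, Commute q b) : DihProd.IsCentralIn S (a * b) := by
  refine ⟨P.mem ha hb, fun q hq => ?_⟩
  obtain ⟨c, hc, d, hd, rfl⟩ := P.split hq
  exact (P.comm_iff hc ha hd hb).2 ⟨hac c hc, hbc d hd⟩

theorem central_split {a b : G} (ha : a ∈ P.E) (hb : b ∈ P.F) (h : DihProd.IsCentralIn S (a * b)) :
    (∀ q ∈ P.E, Commute q a) ∧ ∀ q ∈ P.F, Commute q b := by
  refine ⟨fun q hq => ?_, fun q hq => ?_⟩
  · have := h.2 q (P.leE hq)
    rw [show q = q * 1 from (mul_one q).symm, P.comm_iff hq ha (one_mem _) hb] at this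
    exact this.1
  · have := h.2 q (P.leF hq)
    rw [show q = 1 * q from (one_mul q).symm, P.comm_iff (one_mem _) ha hq hb] at this
    exact this.2

theorem card_sup {K₁ K₂ : Subgroup G} (h₁ : K₁ ≤ P.E) (h₂ : K₂ ≤ P.F) :
    Nat.card ↥(K₁ ⊔ K₂) = Nat.card K₁ * Nat.card K₂ := by
  rw [← Nat.card_prod]
  refine (Nat.card_congr (Equiv.ofBijective
    (fun q : K₁ × K₂ => (⟨q.1 * q.2, mul_mem_sup q.1.2 q.2.2⟩ : ↥(K₁ ⊔ K₂))) ⟨?_, ?_⟩)).symm
  · intro u v huv
    have h := P.uniq (h₁ u.1.2) (h₁ v.1.2) (h₂ u.2.2) (h₂ v.2.2) (congrArg Subtype.val huv)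
    exact Prod.ext (Subtype.ext h.1) (Subtype.ext h.2)
  · rintro ⟨x, hx⟩
    obtain ⟨a, ha, b, hb, rfl⟩ := (P.mem_sup h₁ h₂).1 hx
    exact ⟨(⟨a, ha⟩, ⟨b, hb⟩), rfl⟩

/-- An index two subgroup of a factor gives one of `S`. -/
theorem relIndex_sup {K : Subgroup G} (hK : K ≤ P.F) (h2 : K.relIndex P.F = 2) :
    (P.E ⊔ K).relIndex (S : Subgroup G) = 2 := by
  have hle : P.E ⊔ K ≤ (S : Subgroup G) := sup_le P.hp.1 (hK.trans P.hp.2.1)
  have e := ((P.E ⊔ K).subgroupOf (S : Subgroup G)).index_mul_card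
  rw [Nat.card_congr (subgroupOfEquivOfLe hle).toEquiv, P.card_sup le_rfl hK] at e
  have e2 : Nat.card (S : Subgroup G) = Nat.card P.E * Nat.card P.F := by
    rw [← P.card_sup le_rfl le_rfl, P.hp.2.2.2.2]
  have e3 := (K.subgroupOf P.F).index_mul_card
  rw [Nat.card_congr (subgroupOfEquivOfLe hK).toEquiv, ← relIndex, h2] at e3
  rw [relIndex]
  refine Nat.eq_of_mul_eq_mul_right (show 0 < Nat.card P.E * Nat.card K from
    Nat.mul_pos Nat.card_pos Nat.card_pos) ?_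
  rw [e, e2, ← e3]
  ring

/-- A factor replaced by the graph of a homomorphism into the centre of the other one. -/
theorem exists_graph (φ : P.E →* G) (hφ : ∀ a, φ a ∈ P.F ∧ ∀ q ∈ P.F, Commute q (φ a)) :
    ∃ Q : Pair S, Q.F = P.F ∧ ∃ e : P.E ≃* Q.E, ∀ a : P.E, (e a : G) = (a : G) * φ a := by
  let f : P.E →* G := MonoidHom.mk' (fun a => (a : G) * φ a) fun a b => by
    simp only [Subgroup.coe_mul, map_mul]
    rw [← P.mul_mul b.2 (hφ a).1]
  have hf : Function.Injective f := fun a b h =>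
    Subtype.ext (P.uniq a.2 b.2 (hφ a).1 (hφ b).1 h).1
  have hp : Cfsg.IsInternalDirectProduct f.range P.F (S : Subgroup G) := by
    refine ⟨?_, P.hp.2.1, ?_, ?_, ?_⟩
    · rintro _ ⟨a, rfl⟩; exact P.mem a.2 (hφ a).1
    · rintro _ ⟨a, rfl⟩ q hq
      exact ((P.comm a.2 hq).mul_left ((hφ a).2 q hq).symm).eq
    · refine le_bot_iff.1 ?_
      rintro x ⟨⟨a, rfl⟩, hx⟩
      have h1 := (P.uniq a.2 (one_mem _) (hφ a).1 hx (one_mul _).symm).1
      have h2 : a = 1 := Subtype.ext h1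
      rw [h2, map_one]
      exact one_mem _
    · refine le_antisymm (sup_le ?_ P.hp.2.1) fun x hx => ?_
      · rintro _ ⟨a, rfl⟩; exact P.mem a.2 (hφ a).1
      · obtain ⟨a, ha, b, hb, rfl⟩ := P.split hx
        rw [show a * b = f ⟨a, ha⟩ * ((φ ⟨a, ha⟩)⁻¹ * b) by
          show a * b = a * φ ⟨a, ha⟩ * ((φ ⟨a, ha⟩)⁻¹ * b); group]
        exact mul_mem_sup ⟨_, rfl⟩ (mul_mem (inv_mem (hφ _).1) hb)
  exact ⟨⟨f.range, P.F, hp⟩, rfl, MonoidHom.ofInjective hf, fun a => rfl⟩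

/-- A product of a central element of the first factor and an element with a largest centralizer in
the second one controls the fusion into it. -/
theorem conj_into {c d y : G} (hc : c ∈ P.E) (hcc : ∀ q ∈ P.E, Commute q c) (hd : d ∈ P.F)
    (hmax : ∀ a ∈ P.E, ∀ b ∈ P.F, IsConj (c * d) (a * b) →
      Nat.card ↥(P.F ⊓ centralizer {b}) ≤ Nat.card ↥(P.F ⊓ centralizer {d}))
    (hy : IsConj y (c * d)) :
    ∃ g : G, g * y * g⁻¹ = c * d ∧
      ∀ q ∈ (S : Subgroup G), Commute q y → g * q * g⁻¹ ∈ (S : Subgroup G) := by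
  refine DihProd.conj_into S (P.mem hc hd) (fun u hu hcu => ?_) hy
  obtain ⟨a, ha, b, hb, rfl⟩ := P.split hu
  have h1 : (S : Subgroup G) ⊓ centralizer {a * b} ≤ P.E ⊔ (P.F ⊓ centralizer {b}) := fun q hq => by
    obtain ⟨a', ha', b', hb', rfl⟩ := P.split hq.1
    exact mul_mem_sup ha' ⟨hb', mem_centralizer_singleton_iff.2
      ((P.comm_iff ha' ha hb' hb).1 (mem_centralizer_singleton_iff.1 hq.2)).2.eq⟩
  have h2 : P.E ⊔ (P.F ⊓ centralizer {d}) ≤ (S : Subgroup G) ⊓ centralizer {c * d} := by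
    refine sup_le (fun q hq => ⟨P.leE hq, ?_⟩) fun q hq => ⟨P.leF hq.1, ?_⟩
    · exact mem_centralizer_singleton_iff.2 ((hcc q hq).mul_right (P.comm hq hd)).eq
    · exact mem_centralizer_singleton_iff.2
        ((P.comm hc hq.1).symm.mul_right (mem_centralizer_singleton_iff.1 hq.2)).eq
  refine (Nat.card_le_card_of_injective _ (inclusion_injective h1)).trans
    (le_trans ?_ (Nat.card_le_card_of_injective _ (inclusion_injective h2)))
  rw [P.card_sup le_rfl inf_le_left, P.card_sup le_rfl inf_le_left]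
  exact Nat.mul_le_mul_left _ (hmax a ha b hb hcu)

end Pair

end CfsgLib.SDProd
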