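import Cfsg.Agent.SDProd.Base
import Cfsg.Agent.Invol.QuasiDihedral

/-!
The factors: dihedral groups and semidihedral groups, seen through the subgroup generated by their
involutions.
-/

set_option autoImplicit false
set_option linter.unusedSectionVars false
set_option linter.style.haveILetI false

namespace CfsgLib.SDProd

open Subgroup

universe u

variable {G : Type u} [Group G] [Finite G]

/-- A factor, with a subgroup `W` containing its involutions and having a central centralizer. -/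
structure Factor (D : Subgroup G) where
  /-- the subgroup generated by the involutions -/
  W : Subgroup G
  W_le : W ≤ D
  inv_mem : ∀ a ∈ D, a * a = 1 → a ∈ W
  gen : W ≤ closure {a | a ∈ D ∧ a * a = 1}
  cent : ∀ a ∈ D, (∀ w ∈ W, Commute w a) → a * a = 1 ∧ ∀ q ∈ D, Commute q a

/-- A non-abelian factor: its involutions generate a dihedral group of order at least eight. -/
structure Big (D : Subgroup G) extends Factor D where
  /-- generators of `W` -/
  B : CfsgLib.DihFour.Data W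
  even : 2 ∣ B.h
  central : ∀ a ∈ D, (∀ q ∈ D, Commute q a) → a = 1 ∨ a = B.z
  sq : ∀ a ∈ D, a * a * (a * a) = 1 → a * a = 1 ∨ a * a = B.z
  zc : ∀ q ∈ D, Commute q B.z
  rot : ∃ M : Subgroup G, M ≤ D ∧ M.relIndex D = 2 ∧ ∀ a ∈ M, a * a = 1 → a = 1 ∨ a = B.z
  root_not_comm : ∀ q ∈ D, q * q = B.z → ∀ i : ℤ, ¬ Commute q (B.r ^ i * B.s)

theorem gen_of_data {D W : Subgroup G} (hW : W ≤ D) (B : CfsgLib.DihFour.Data W) :
    W ≤ closure {a | a ∈ D ∧ a * a = 1} := by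
  intro g hg
  have hmem : ∀ i : ℤ, B.r ^ i * B.s ∈ closure {a | a ∈ D ∧ a * a = 1} := fun i =>
    subset_closure ⟨hW (DihProd.refl_mem B i), B.refl_sq i⟩
  have h := DihProd.map_mem_of_refl B (g := 1) (fun i => by simpa using hmem i) hg
  simpa using h

/-- The factor given by a four group. -/
theorem exists_factor_four {D : Subgroup G} (hc : ∀ a ∈ D, ∀ b ∈ D, Commute a b)
    (h2 : ∀ a ∈ D, a * a = 1) : ∃ T : Factor D, T.W = D :=
  ⟨⟨D, le_rfl, fun _ ha _ => ha, fun a ha => subset_closure ⟨ha, h2 a ha⟩,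
    fun a ha _ => ⟨h2 a ha, fun q hq => hc q hq a ha⟩⟩, rfl⟩

theorem exists_big_dihedral {D : Subgroup G} (hD : IsPGroup 2 D) {m : ℕ} (hm : 4 ≤ m)
    (e : Nonempty (↥D ≃* DihedralGroup m)) : Nonempty (Big D) := by
  obtain ⟨e⟩ := e
  obtain ⟨A⟩ := CfsgLib.DihFour.exists_data hD (by omega : 2 ≤ m) e
  have hA : 2 ∣ A.h := by
    have h1 : Nat.card D = 2 * m := (Nat.card_congr e.toEquiv).trans DihedralGroup.nat_card
    rw [A.card_eq, A.hh] at h1
    rcases hk : A.k with _ | k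
    · rw [hk, pow_zero] at h1; omega
    · rw [A.hh, hk]; exact dvd_pow_self 2 k.succ_ne_zero
  refine ⟨⟨⟨D, le_rfl, fun _ ha _ => ha, gen_of_data le_rfl A, fun a ha h => ?_⟩, A, hA,
    fun a ha h => DihProd.central_cases A hA ha h, fun a ha h => DihProd.sq_cases A ha h,
    fun q hq => (A.z_comm hq).symm, ⟨zpowers A.r, zpowers_le.2 A.rS, ?_, fun a ha h => ?_⟩,
    fun q hq hq2 i => DihProd.root_not_comm A rfl hq hq2⟩⟩
  · refine ⟨?_, h⟩
    rcases DihProd.central_cases A hA ha h with rfl | rfl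
    · exact one_mul 1
    · exact A.z_sq
  · have h1 := ((zpowers A.r).subgroupOf D).index_mul_card
    rw [Nat.card_congr (subgroupOfEquivOfLe (zpowers_le.2 A.rS)).toEquiv, Nat.card_zpowers, A.hr, A.card_eq] at h1
    have := A.h_pos
    rw [relIndex]
    nlinarith
  · obtain ⟨i, rfl⟩ := mem_zpowers_iff.1 ha
    exact A.rpow_inv_of_sq h

/-- Generators of a semidihedral subgroup. -/
structure SD (D : Subgroup G) where
  /-- a quarter of half the order of the rotation -/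
  q : ℕ
  /-- the exponent of two in `q` -/
  k : ℕ
  /-- the rotation -/
  x : G
  /-- the reflection -/
  y : G
  hq : q = 2 ^ k
  card_eq : Nat.card D = 16 * q
  hx : orderOf x = 8 * q
  hy : orderOf y = 2
  hxy : y * x * y⁻¹ = x ^ (4 * (q : ℤ) - 1)
  xD : x ∈ D
  yD : y ∈ D
  cases : ∀ g ∈ D, ∃ i : ℤ, g = x ^ i ∨ g = x ^ i * y
  y_not : ∀ i : ℤ, x ^ i ≠ y

theorem exists_sd {D : Subgroup G} (h : Cfsg.IsQuasiDihedral ↥D) : Nonempty (SD D) := by
  obtain ⟨A⟩ := CfsgLib.QD.exists_data h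
  refine ⟨⟨A.q, A.k, A.x, A.y, A.hq, A.card_eq, by rw [Subgroup.orderOf_coe]; exact A.hx,
    by rw [Subgroup.orderOf_coe]; exact A.hy, ?_, A.x.2, A.y.2, fun g hg => ?_, fun i hi => ?_⟩⟩
  · simpa using congrArg Subtype.val A.hxy
  · rcases A.cases ⟨g, hg⟩ with ⟨i, e⟩ | ⟨i, e⟩
    · exact ⟨i, Or.inl (by simpa using congrArg Subtype.val e)⟩
    · exact ⟨i, Or.inr (by simpa using congrArg Subtype.val e)⟩
  · exact A.y_not_mem ⟨i, Subtype.ext (by simpa using hi)⟩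

namespace SD

variable {D : Subgroup G} (A : SD D)

theorem q_pos : 0 < A.q := A.hq ▸ Nat.two_pow_pos _

theorem zpow_eq_iff {a b : ℤ} : A.x ^ a = A.x ^ b ↔ (8 * (A.q : ℤ)) ∣ a - b := by
  rw [← mul_inv_eq_one, ← zpow_sub, ← orderOf_dvd_iff_zpow_eq_one, A.hx]
  push_cast
  rfl

theorem zpow_eq_one_iff {a : ℤ} : A.x ^ a = 1 ↔ (8 * (A.q : ℤ)) ∣ a := by
  rw [← zpow_zero A.x, A.zpow_eq_iff, sub_zero]

theorem yy : A.y * A.y = 1 := CfsgLib.Invol.mul_self_eq_one A.hy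

theorem y_mul (i : ℤ) : A.y * A.x ^ i = A.x ^ ((4 * (A.q : ℤ) - 1) * i) * A.y :=
  mul_inv_eq_iff_eq_mul.1 (by rw [← conj_zpow, A.hxy, ← zpow_mul])

theorem refl_mul (i j : ℤ) :
    A.x ^ i * A.y * (A.x ^ j * A.y) = A.x ^ (i + (4 * (A.q : ℤ) - 1) * j) := by
  rw [mul_assoc, ← mul_assoc A.y, A.y_mul, mul_assoc _ A.y A.y, A.yy, mul_one, ← zpow_add]

theorem rot_refl (i j : ℤ) : A.x ^ i * (A.x ^ j * A.y) = A.x ^ (i + j) * A.y := by
  rw [zpow_add, mul_assoc]

theorem refl_rot (i j : ℤ) :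
    A.x ^ i * A.y * A.x ^ j = A.x ^ (i + (4 * (A.q : ℤ) - 1) * j) * A.y := by
  rw [mul_assoc, A.y_mul, ← mul_assoc, ← zpow_add]

theorem refl_mem (i : ℤ) : A.x ^ i * A.y ∈ D := mul_mem (zpow_mem A.xD i) A.yD

theorem refl_ne (i j : ℤ) : A.x ^ i * A.y ≠ A.x ^ j := fun h =>
  A.y_not (j - i) (by rw [eq_inv_mul_of_mul_eq h, ← zpow_neg, ← zpow_add]; congr 1; ring)

/-- The central involution. -/
def z : G := A.x ^ (4 * (A.q : ℤ))

theorem z_ne : A.z ≠ 1 := by
  rw [z, Ne, A.zpow_eq_one_iff]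
  intro h
  have := A.q_pos
  have := Int.le_of_dvd (by omega) h
  omega

theorem rot_sq_cases {i : ℤ} (h : 4 * (A.q : ℤ) ∣ i) : A.x ^ i = 1 ∨ A.x ^ i = A.z := by
  obtain ⟨c, rfl⟩ := h
  rcases Int.even_or_odd c with ⟨j, rfl⟩ | ⟨j, rfl⟩
  · exact Or.inl (A.zpow_eq_one_iff.2 ⟨j, by ring⟩)
  · exact Or.inr (A.zpow_eq_iff.2 ⟨j, by ring⟩)

theorem rot_comm_refl {i j : ℤ} (h : Commute (A.x ^ i) (A.x ^ j * A.y)) :
    A.x ^ i = 1 ∨ A.x ^ i = A.z := by
  have h1 := h.eq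
  rw [A.rot_refl, A.refl_rot, mul_left_inj, A.zpow_eq_iff] at h1
  have h2 : 8 * (A.q : ℤ) ∣ 2 * (i * (1 - 2 * (A.q : ℤ))) := by
    convert h1 using 1; ring
  rw [show (8 : ℤ) * A.q = 2 * (4 * A.q) by ring, mul_dvd_mul_iff_left two_ne_zero] at h2
  refine A.rot_sq_cases ?_
  have h3 : IsCoprime (4 * (A.q : ℤ)) (1 - 2 * (A.q : ℤ)) :=
    ⟨(A.q : ℤ), 1 + 2 * (A.q : ℤ), by ring⟩
  exact h3.dvd_of_dvd_mul_right h2

theorem refl_sq_one_iff {i : ℤ} : A.x ^ i * A.y * (A.x ^ i * A.y) = 1 ↔ 2 ∣ i := by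
  rw [A.refl_mul, A.zpow_eq_one_iff]
  refine ⟨fun h => ?_, fun ⟨c, hc⟩ => ⟨c, by rw [hc]; ring⟩⟩
  have : 8 * (A.q : ℤ) ∣ 4 * (A.q : ℤ) * i := by convert h using 1; ring
  rw [show (8 : ℤ) * A.q = 4 * A.q * 2 by ring, mul_dvd_mul_iff_left (by have := A.q_pos; omega)] at this
  exact this

theorem refl_sq_odd {i : ℤ} (h : ¬ 2 ∣ i) : A.x ^ i * A.y * (A.x ^ i * A.y) = A.z := by
  rw [A.refl_mul, z, A.zpow_eq_iff]
  exact ⟨(i - 1) / 2, by
    obtain ⟨c, rfl⟩ := Int.odd_iff.2 (by omega : i % 2 = 1)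
    rw [show (2 * c + 1 - 1) / 2 = c by omega]; ring⟩

theorem inv_cases {a : G} (ha : a ∈ D) (h : a * a = 1) :
    a = 1 ∨ a = A.z ∨ ∃ i : ℤ, a = A.x ^ (2 * i) * A.y := by
  obtain ⟨i, rfl | rfl⟩ := A.cases a ha
  · rw [← zpow_add, A.zpow_eq_one_iff, ← two_mul, show (8 : ℤ) * A.q = 2 * (4 * A.q) by ring,
      mul_dvd_mul_iff_left two_ne_zero] at h
    exact (A.rot_sq_cases h).imp id Or.inl
  · obtain ⟨j, rfl⟩ := A.refl_sq_one_iff.1 h
    exact Or.inr (Or.inr ⟨j, rfl⟩)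

end SD

theorem exists_big_sd {D : Subgroup G} (A : SD D) :
    ∃ T : Big D, T.B.r = A.x ^ (2 : ℤ) ∧ T.B.s = A.y ∧ T.B.z = A.z := by
  have hxx : ∀ i : ℤ, (A.x ^ (2 : ℤ)) ^ i = A.x ^ (2 * i) := fun i => (zpow_mul _ _ _).symm
  set W : Subgroup G := closure {A.x ^ (2 : ℤ), A.y} with hWdef
  have hrW : A.x ^ (2 : ℤ) ∈ W := subset_closure (Or.inl rfl)
  have hyW : A.y ∈ W := subset_closure (Or.inr rfl)
  let W' : Subgroup G :=
    { carrier := {g | ∃ i : ℤ, g = A.x ^ (2 * i) ∨ g = A.x ^ (2 * i) * A.y}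
      one_mem' := ⟨0, Or.inl (by simp)⟩
      mul_mem' := by
        rintro _ _ ⟨i, rfl | rfl⟩ ⟨j, rfl | rfl⟩
        · exact ⟨i + j, Or.inl (by rw [← zpow_add]; congr 1; ring)⟩
        · exact ⟨i + j, Or.inr (by rw [A.rot_refl]; congr 2; ring)⟩
        · exact ⟨i + (4 * (A.q : ℤ) - 1) * j, Or.inr (by rw [A.refl_rot]; congr 2; ring)⟩
        · exact ⟨i + (4 * (A.q : ℤ) - 1) * j, Or.inl (by rw [A.refl_mul]; congr 1; ring)⟩
      inv_mem' := by
        rintro _ ⟨i, rfl | rfl⟩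
        · exact ⟨-i, Or.inl (by rw [← zpow_neg]; congr 1; ring)⟩
        · exact ⟨i, Or.inr (inv_eq_of_mul_eq_one_right (A.refl_sq_one_iff.2 (dvd_mul_right 2 i)))⟩ }
  have hWW : W = W' := by
    refine le_antisymm ((closure_le _).2 ?_) ?_
    · rintro g (rfl | rfl)
      · exact ⟨1, Or.inl (by rw [mul_one])⟩
      · exact ⟨0, Or.inr (by simp)⟩
    · rintro g ⟨i, rfl | rfl⟩
      · rw [← hxx]; exact zpow_mem hrW i
      · rw [← hxx]; exact mul_mem (zpow_mem hrW i) hyW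
  have hcases : ∀ g ∈ W, ∃ i : ℤ, g = A.x ^ (2 * i) ∨ g = A.x ^ (2 * i) * A.y := fun g hg => by
    rw [hWW] at hg; exact hg
  have hWD : W ≤ D := (closure_le _).2 (by
    rintro g (rfl | rfl)
    exacts [zpow_mem A.xD _, A.yD])
  have hr : orderOf (A.x ^ (2 : ℤ)) = 2 * (2 * A.q) := by
    rw [show (2 : ℤ) = ((2 : ℕ) : ℤ) from rfl, zpow_natCast, orderOf_pow' _ two_ne_zero, A.hx]
    rw [Nat.gcd_eq_right ⟨4 * A.q, by ring⟩]; omega
  let B : CfsgLib.DihFour.Data W :=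
    { h := 2 * A.q
      k := A.k + 1
      r := A.x ^ (2 : ℤ)
      s := A.y
      hh := by rw [A.hq, pow_succ]; ring
      hr := hr
      hs := A.hy
      hsr := by
        rw [← conj_zpow, A.hxy, ← zpow_mul, ← zpow_neg, A.zpow_eq_iff]; exact ⟨1, by ring⟩
      rS := hrW
      sS := hyW
      cases := fun g hg => by
        obtain ⟨i, h⟩ := hcases g hg
        exact ⟨i, by rwa [hxx]⟩
      card_eq := by
        have hinj : Function.Injective (fun p : ↥(zpowers (A.x ^ (2 : ℤ))) × Fin 2 =>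
            (⟨(p.1 : G) * A.y ^ (p.2 : ℕ), mul_mem (zpowers_le.2 hrW p.1.2) (pow_mem hyW _)⟩ : W)) := by
          rintro ⟨⟨a, ha⟩, i⟩ ⟨⟨b, hb⟩, j⟩ h
          obtain ⟨m, rfl⟩ := mem_zpowers_iff.1 ha
          obtain ⟨n, rfl⟩ := mem_zpowers_iff.1 hb
          have h' := congrArg Subtype.val h
          simp only [hxx] at h'
          fin_cases i <;> fin_cases j <;> simp at h'
          · exact Prod.ext (Subtype.ext ((hxx m).trans (h'.trans (hxx n).symm))) rfl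
          · exact absurd h'.symm (A.refl_ne _ _)
          · exact absurd h' (A.refl_ne _ _)
          · exact Prod.ext (Subtype.ext ((hxx m).trans (h'.trans (hxx n).symm))) rfl
        have hsurj : Function.Surjective (fun p : ↥(zpowers (A.x ^ (2 : ℤ))) × Fin 2 =>
            (⟨(p.1 : G) * A.y ^ (p.2 : ℕ), mul_mem (zpowers_le.2 hrW p.1.2) (pow_mem hyW _)⟩ : W)) := by
          rintro ⟨g, hg⟩
          obtain ⟨i, rfl | rfl⟩ := hcases g hg
          · exact ⟨(⟨A.x ^ (2 * i), hxx i ▸ zpow_mem (mem_zpowers _) i⟩, 0), Subtype.ext (by simp)⟩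
          · exact ⟨(⟨A.x ^ (2 * i), hxx i ▸ zpow_mem (mem_zpowers _) i⟩, 1), Subtype.ext (by simp)⟩
        rw [← Nat.card_congr (Equiv.ofBijective _ ⟨hinj, hsurj⟩), Nat.card_prod, Nat.card_zpowers, hr,
          Nat.card_fin]
        ring
      s_not := fun h => by
        obtain ⟨i, hi⟩ := mem_zpowers_iff.1 h
        rw [hxx] at hi
        exact A.y_not _ hi }
  have hz : B.z = A.z := by
    show (A.x ^ (2 : ℤ)) ^ ((2 * A.q : ℕ) : ℤ) = A.x ^ (4 * (A.q : ℤ))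
    rw [hxx]; congr 1; push_cast; ring
  have hzz : A.z * A.z = 1 := hz ▸ B.z_sq
  have hzc : ∀ q ∈ D, Commute q A.z := by
    intro q hq
    obtain ⟨i, rfl | rfl⟩ := A.cases q hq
    · exact Commute.zpow_zpow_self A.x _ _
    · refine (Commute.zpow_zpow_self A.x _ _).mul_left ?_
      show A.y * A.x ^ (4 * (A.q : ℤ)) = A.x ^ (4 * (A.q : ℤ)) * A.y
      rw [A.y_mul, mul_left_inj, A.zpow_eq_iff]
      exact ⟨2 * (A.q : ℤ) - 1, by ring⟩
  have hcent : ∀ a ∈ D, Commute a A.y → Commute a (A.x ^ (2 : ℤ)) → a = 1 ∨ a = A.z := by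
    intro a ha h1 h2
    obtain ⟨i, rfl | rfl⟩ := A.cases a ha
    · exact A.rot_comm_refl (j := 0) (by rwa [zpow_zero, one_mul])
    · have := A.q_pos
      rcases A.rot_comm_refl h2.symm with h | h
      · rw [A.zpow_eq_one_iff] at h
        have := Int.le_of_dvd (by omega) h
        omega
      · rw [SD.z, A.zpow_eq_iff, ← dvd_neg] at h
        have := Int.le_of_dvd (by omega) h
        omega
  let Mq : Subgroup G :=
    { carrier := {g | ∃ i : ℤ, g = A.x ^ (2 * i) ∨ g = A.x ^ (2 * i + 1) * A.y}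
      one_mem' := ⟨0, Or.inl (by simp)⟩
      mul_mem' := by
        rintro _ _ ⟨i, rfl | rfl⟩ ⟨j, rfl | rfl⟩
        · exact ⟨i + j, Or.inl (by rw [← zpow_add]; congr 1; ring)⟩
        · exact ⟨i + j, Or.inr (by rw [A.rot_refl]; congr 2; ring)⟩
        · exact ⟨i + (4 * (A.q : ℤ) - 1) * j, Or.inr (by rw [A.refl_rot]; congr 2; ring)⟩
        · exact ⟨i + (4 * (A.q : ℤ) - 1) * j + 2 * (A.q : ℤ), Or.inl (by rw [A.refl_mul]; congr 1; ring)⟩
      inv_mem' := by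
        rintro _ ⟨i, rfl | rfl⟩
        · exact ⟨-i, Or.inl (by rw [← zpow_neg]; congr 1; ring)⟩
        · refine ⟨i + 2 * (A.q : ℤ), Or.inr (inv_eq_of_mul_eq_one_right ?_)⟩
          rw [A.refl_mul, A.zpow_eq_one_iff]
          exact ⟨i + 2 * (A.q : ℤ) * 1 - (A.q : ℤ) * 0, by ring⟩ }
  refine ⟨⟨⟨W, hWD, fun a ha h => ?_, gen_of_data hWD B, fun a ha h => ?_⟩, B, dvd_mul_right 2 A.q,
    fun a ha h => (hcent a ha (h _ A.yD).symm (h _ (zpow_mem A.xD 2)).symm).imp_right (·.trans hz.symm), fun a ha h => (?_ : a * a = 1 ∨ a * a = A.z).imp_right (·.trans hz.symm),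
    fun q hq => hz.symm ▸ hzc q hq, ⟨Mq, ?_⟩, fun q hq hq2 i hc => ?_⟩, rfl, rfl, hz⟩
  · rcases A.inv_cases ha h with rfl | rfl | ⟨i, rfl⟩
    · exact one_mem _
    · exact hz ▸ B.z_mem
    · rw [← hxx]; exact mul_mem (zpow_mem hrW i) hyW
  · rcases hcent a ha (h _ hyW).symm (h _ hrW).symm with rfl | rfl
    · exact ⟨one_mul 1, fun q _ => Commute.one_right q⟩
    · exact ⟨hzz, hzc⟩
  · obtain ⟨i, rfl | rfl⟩ := A.cases a ha
    · rw [← zpow_add] at h ⊢
      rw [← zpow_add, A.zpow_eq_one_iff, show (i + i + (i + i)) = 2 * (i + i) by ring,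
        show (8 : ℤ) * A.q = 2 * (4 * A.q) by ring, mul_dvd_mul_iff_left two_ne_zero] at h
      exact A.rot_sq_cases h
    · rw [A.refl_mul]
      exact A.rot_sq_cases ⟨i, by ring⟩
  · refine ⟨fun g hg => ?_, ?_, fun a ha h => ?_⟩
    · obtain ⟨i, rfl | rfl⟩ := hg
      · exact zpow_mem A.xD _
      · exact A.refl_mem _
    · rw [relIndex, index_eq_two_iff]
      refine ⟨⟨A.x, A.xD⟩, fun b => ?_⟩
      obtain ⟨i, e | e⟩ := A.cases b b.2
      · have hb : (b * ⟨A.x, A.xD⟩ : D).1 = A.x ^ (i + 1) := by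
          rw [zpow_add_one, ← e]; rfl
        have key : ∀ j : ℤ, A.x ^ j ∈ Mq ↔ 2 ∣ j := by
          refine fun j => ⟨?_, fun ⟨l, hl⟩ => ⟨l, Or.inl (by rw [hl])⟩⟩
          rintro ⟨l, h | h⟩
          · rw [A.zpow_eq_iff] at h
            have := (Dvd.intro (4 * (A.q : ℤ)) (by ring) : (2 : ℤ) ∣ 8 * A.q).trans h
            omega
          · exact absurd h.symm (A.refl_ne _ _)
        simp only [mem_subgroupOf, hb, e]
        rw [key, key]
        simp only [xor_iff_not_iff]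
        omega
      · have hb : (b * ⟨A.x, A.xD⟩ : D).1 = A.x ^ (i + (4 * (A.q : ℤ) - 1)) * A.y := by
          rw [show ((b * ⟨A.x, A.xD⟩ : D) : G) = (b : G) * A.x from rfl, e]
          simpa using A.refl_rot i 1
        have key : ∀ j : ℤ, A.x ^ j * A.y ∈ Mq ↔ ¬ 2 ∣ j := by
          refine fun j => ⟨?_, fun h => ⟨(j - 1) / 2, Or.inr (by congr 2; omega)⟩⟩
          rintro ⟨l, h | h⟩
          · exact absurd h (A.refl_ne _ _)
          · rw [mul_left_inj, A.zpow_eq_iff] at h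
            have := (Dvd.intro (4 * (A.q : ℤ)) (by ring) : (2 : ℤ) ∣ 8 * A.q).trans h
            omega
        simp only [mem_subgroupOf, hb, e]
        rw [key, key]
        simp only [xor_iff_not_iff]
        omega
    · obtain ⟨i, rfl | rfl⟩ := ha
      · rw [hz]
        rw [← zpow_add, A.zpow_eq_one_iff, ← two_mul, show (8 : ℤ) * A.q = 2 * (4 * A.q) by ring,
          mul_dvd_mul_iff_left two_ne_zero] at h
        exact A.rot_sq_cases h
      · have := A.refl_sq_one_iff.1 h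
        omega
  · rw [hz] at hq2
    change Commute q ((A.x ^ (2 : ℤ)) ^ i * A.y) at hc
    rw [hxx] at hc
    obtain ⟨l, rfl | rfl⟩ := A.cases q hq
    · rcases A.rot_comm_refl hc with h | h <;> rw [h] at hq2
      · exact A.z_ne (hq2.symm.trans (one_mul 1))
      · exact A.z_ne (hq2.symm.trans hzz)
    · have hodd : ¬ 2 ∣ l := fun h => A.z_ne (hq2.symm.trans (A.refl_sq_one_iff.2 h))
      have h1 := hc.eq
      rw [A.refl_mul, A.refl_mul, A.zpow_eq_iff] at h1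
      have h3 : 2 ∣ (l - 2 * i) * (1 - 2 * (A.q : ℤ)) := by
        have h4 : 2 * (2 * (A.q : ℤ)) ∣ (l - 2 * i) * (1 - 2 * (A.q : ℤ)) := by
          rw [← mul_dvd_mul_iff_left (two_ne_zero (α := ℤ))]
          convert h1 using 1 <;> first | rfl | ring
        exact (dvd_mul_right 2 _).trans h4
      rcases (Int.prime_two.dvd_mul).1 h3 with h4 | h4 <;> omega

end CfsgLib.SDProd
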