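import Cfsg.Agent.SDProd.Big
import Cfsg.Agent.DihProd.Transfer

/-!
Involutions when both factors are non-abelian: a factorisation whose factors contain the conjugates
in `S` of their involutions.
-/

set_option autoImplicit false
set_option linter.unusedSectionVars false
set_option linter.style.haveILetI false

namespace CfsgLib.SDProd

open Subgroup
open CfsgLib.DihProd (IsCentralIn commute_conj conj_inj conj_eq_iff conj_ne_one conj_sq
  fix_of_sq_fix normalizer_mem exists_extremal to_central burnside)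

universe u

variable {G : Type u} [Group G] [Finite G] {S : Sylow 2 G}

/-- The subgroup generated by the involutions of `S`. -/
def omega (S : Sylow 2 G) : Subgroup G := closure {x | x ∈ (S : Subgroup G) ∧ x * x = 1}

/-- Two non-commuting square roots of `c` among the products of involutions of `S`. -/
def HasPair (S : Sylow 2 G) (c : G) : Prop :=
  ∃ w ∈ omega S, ∃ w' ∈ omega S, w * w = c ∧ w' * w' = c ∧ ¬ Commute w w'

theorem omega_conj {n x : G} (hn : n ∈ normalizer ((S : Subgroup G) : Set G)) (hx : x ∈ omega S) :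
    n * x * n⁻¹ ∈ omega S := by
  refine (closure_le (K := (omega S).comap (MulAut.conj n).toMonoidHom)).2 ?_ hx
  rintro w ⟨hw, hw2⟩
  exact subset_closure ⟨normalizer_mem S hn hw, conj_sq hw2⟩

namespace Big

variable {D : Subgroup G} (T : Big D)

theorem z_mem : T.B.z ∈ D := T.W_le T.B.z_mem

theorem refl_mem (i : ℤ) : T.B.r ^ i * T.B.s ∈ D := T.W_le (DihProd.refl_mem T.B i)

theorem rot_mem (i : ℤ) : T.B.r ^ i ∈ D := T.W_le (zpow_mem T.B.rS i)

theorem cases_inv {a : G} (ha : a ∈ D) (h : a * a = 1) :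
    a = 1 ∨ a = T.B.z ∨ ∃ i : ℤ, a = T.B.r ^ i * T.B.s :=
  DihProd.inv_cases T.B (T.inv_mem a ha h) h

end Big

namespace Pair

variable (P : Pair S) (TA : Big P.E) (TB : Big P.F)

/-- The three central involutions. -/
def IsC (c : G) : Prop := c = TA.B.z ∨ c = TB.B.z ∨ c = TA.B.z * TB.B.z

/-- The involutions of the first factor are conjugate to the central one. -/
def Refl : Prop := ∀ a ∈ P.E, a * a = 1 → a ≠ 1 → IsConj a TA.B.z

theorem central_zA : IsCentralIn S TA.B.z := by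
  have h := P.isCentralIn TA.z_mem (one_mem _) TA.zc fun q _ => Commute.one_right q
  rwa [mul_one] at h

theorem z_ne_z : TA.B.z ≠ TB.B.z := fun h => TA.B.z_ne (P.eq_one TA.z_mem (h ▸ TB.z_mem))

theorem ne_mul : TA.B.z * TB.B.z ≠ TB.B.z := fun h => TA.B.z_ne (mul_eq_right.1 h)

theorem ne_mul' : TA.B.z * TB.B.z ≠ TA.B.z := fun h => TB.B.z_ne (mul_eq_left.1 h)

theorem zz_ne_one : TA.B.z * TB.B.z ≠ 1 := fun h => TA.B.z_ne
  (P.uniq TA.z_mem (one_mem _) TB.z_mem (one_mem _) (h.trans (mul_one 1).symm)).1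

theorem omega_split {w : G} (hw : w ∈ omega S) : ∃ a ∈ TA.W, ∃ b ∈ TB.W, w = a * b := by
  refine (P.mem_sup TA.W_le TB.W_le).1 ((closure_le _).2 ?_ hw)
  rintro x ⟨hx, hx2⟩
  obtain ⟨a, ha, b, hb, rfl⟩ := P.split hx
  obtain ⟨h1, h2⟩ := P.sq_eq_one ha hb hx2
  exact mul_mem_sup (TA.inv_mem a ha h1) (TB.inv_mem b hb h2)

theorem W_le_omega : TA.W ≤ omega S := TA.gen.trans (closure_mono fun _ h => ⟨P.leE h.1, h.2⟩)

include TB in
theorem hasPair_zA : HasPair S TA.B.z := by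
  obtain ⟨l, -, hl⟩ := DihProd.exists_root TA.B TA.even
  have hr := TA.rot_mem l
  have h1 : TB.B.s ∈ P.F := TB.W_le TB.B.sS
  have h2 : TB.B.r * TB.B.s ∈ P.F := TB.W_le (mul_mem TB.B.rS TB.B.sS)
  have hrO := P.W_le_omega TA (zpow_mem TA.B.rS l)
  have hO := P.swap.W_le_omega TB
  refine ⟨_, mul_mem hrO (hO TB.B.sS), _, mul_mem hrO (hO (mul_mem TB.B.rS TB.B.sS)), ?_, ?_, fun h =>
    DihProd.refl_pair_not_comm TB.B TB.even ((P.comm_iff hr hr h1 h2).1 h).2⟩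
  · rw [P.mul_mul hr h1, hl, TB.B.s_sq, mul_one]
  · rw [P.mul_mul hr h2, hl, show TB.B.r * TB.B.s * (TB.B.r * TB.B.s) = 1 by simpa using TB.B.refl_sq 1,
      mul_one]

theorem not_hasPair : ¬ HasPair S (TA.B.z * TB.B.z) := by
  rintro ⟨w, hw, w', hw', h, h', hc⟩
  have key : ∀ w ∈ omega S, w * w = TA.B.z * TB.B.z → ∃ i j : ℤ, w = TA.B.r ^ i * TB.B.r ^ j := by
    intro w hw h
    obtain ⟨a, ha, b, hb, rfl⟩ := P.omega_split TA TB hw
    rw [P.mul_mul (TA.W_le ha) (TB.W_le hb)] at h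
    obtain ⟨h1, h2⟩ := P.uniq (mul_mem (TA.W_le ha) (TA.W_le ha)) TA.z_mem
      (mul_mem (TB.W_le hb) (TB.W_le hb)) TB.z_mem h
    obtain ⟨i, rfl | rfl⟩ := TA.B.cases a ha
    · obtain ⟨j, rfl | rfl⟩ := TB.B.cases b hb
      · exact ⟨i, j, rfl⟩
      · exact absurd (h2.symm.trans (TB.B.refl_sq j)) TB.B.z_ne
    · exact absurd (h1.symm.trans (TA.B.refl_sq i)) TA.B.z_ne
  obtain ⟨i, j, rfl⟩ := key w hw h
  obtain ⟨i', j', rfl⟩ := key w' hw' h'
  exact hc ((P.comm_iff (TA.rot_mem i) (TA.rot_mem i') (TB.rot_mem j) (TB.rot_mem j')).2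
    ⟨Commute.zpow_zpow_self TA.B.r i i', Commute.zpow_zpow_self TB.B.r j j'⟩)

theorem isC_central {c : G} (hc : P.IsC TA TB c) : IsCentralIn S c := by
  rcases hc with rfl | rfl | rfl
  exacts [P.central_zA TA, P.swap.central_zA TB, (P.central_zA TA).mul S (P.swap.central_zA TB)]

theorem isC_ne {c : G} (hc : P.IsC TA TB c) : c ≠ 1 := by
  rcases hc with rfl | rfl | rfl
  exacts [TA.B.z_ne, TB.B.z_ne, P.zz_ne_one TA TB]

theorem distinct {c c' : G} (hc : P.IsC TA TB c) (hc' : P.IsC TA TB c') (h : IsConj c c') :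
    c = c' := by
  have hpz₂ : HasPair S TB.B.z := P.swap.hasPair_zA TB TA
  have key : ∀ {x y : G} (n : G), n ∈ normalizer ((S : Subgroup G) : Set G) → n * x * n⁻¹ = y →
      HasPair S x → HasPair S y := by
    rintro x y n hn rfl ⟨w, hw, w', hw', h1, h2, h3⟩
    refine ⟨_, omega_conj hn hw, _, omega_conj hn hw', by rw [← DihProd.conj_mul, h1],
      by rw [← DihProd.conj_mul, h2], fun h4 => h3 ?_⟩
    have h5 := commute_conj n⁻¹ h4
    rwa [show n⁻¹ * (n * w * n⁻¹) * n⁻¹⁻¹ = w by group,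
      show n⁻¹ * (n * w' * n⁻¹) * n⁻¹⁻¹ = w' by group] at h5
  have hfix : ∀ n ∈ normalizer ((S : Subgroup G) : Set G),
      n * (TA.B.z * TB.B.z) * n⁻¹ = TA.B.z * TB.B.z ∧ n * TA.B.z * n⁻¹ = TA.B.z := by
    intro n hn
    have himg : ∀ {c : G}, P.IsC TA TB c → P.IsC TA TB (n * c * n⁻¹) := by
      intro c hc
      have hcen := (P.isC_central TA TB hc).conj S hn
      obtain ⟨a, ha, b, hb, hab⟩ := P.split hcen.1
      obtain ⟨hac, hbc⟩ := P.central_split ha hb (hab ▸ hcen)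
      have hne : n * c * n⁻¹ ≠ 1 := conj_ne_one (P.isC_ne TA TB hc)
      rcases TA.central a ha hac with rfl | rfl <;> rcases TB.central b hb hbc with rfl | rfl
      · exact absurd (hab.trans (mul_one 1)) hne
      · exact Or.inr (Or.inl (hab.trans (one_mul _)))
      · exact Or.inl (hab.trans (mul_one _))
      · exact Or.inr (Or.inr hab)
    have e3 : n * (TA.B.z * TB.B.z) * n⁻¹ = TA.B.z * TB.B.z := by
      rcases himg (Or.inr (Or.inr rfl) : P.IsC TA TB (TA.B.z * TB.B.z)) with h1 | h1 | h1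
      · exact absurd (key n⁻¹ (inv_mem hn) (show n⁻¹ * _ * n⁻¹⁻¹ = TA.B.z * TB.B.z by
          rw [inv_inv]; exact (conj_eq_iff.1 h1).symm) (P.hasPair_zA TA TB)) (P.not_hasPair TA TB)
      · exact absurd (key n⁻¹ (inv_mem hn) (show n⁻¹ * _ * n⁻¹⁻¹ = TA.B.z * TB.B.z by
          rw [inv_inv]; exact (conj_eq_iff.1 h1).symm) hpz₂) (P.not_hasPair TA TB)
      · exact h1
    refine ⟨e3, ?_⟩
    rcases himg (Or.inl rfl : P.IsC TA TB TA.B.z) with h1 | h1 | h1
    · exact h1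
    · rcases himg (Or.inr (Or.inl rfl) : P.IsC TA TB TB.B.z) with h2 | h2 | h2
      · exact fix_of_sq_fix S hn (P.central_zA TA) (by rw [h1, h2])
      · exact absurd (conj_inj (h1.trans h2.symm)) (P.z_ne_z TA TB)
      · exact absurd (conj_inj (h2.trans e3.symm)) (fun h3 => TA.B.z_ne (right_eq_mul.1 h3))
    · exact absurd (conj_inj (h1.trans e3.symm)) (fun h3 => TB.B.z_ne (left_eq_mul.1 h3))
  obtain ⟨n, hn, he⟩ := burnside S (P.isC_central TA TB hc) (P.isC_central TA TB hc') h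
  obtain ⟨h3, h1⟩ := hfix n hn
  have h2 : n * TB.B.z * n⁻¹ = TB.B.z := by
    have h4 := h3
    rw [DihProd.conj_mul, h1] at h4
    exact mul_left_cancel h4
  rcases hc with rfl | rfl | rfl
  exacts [h1.symm.trans he, h2.symm.trans he, h3.symm.trans he]

/-- A central involution having a square root in `S` moved into `S` is fixed. -/
theorem fix_square {g w c : G} (hc : P.IsC TA TB c) (hwc : w * w = c)
    (hgw : g * w * g⁻¹ ∈ (S : Subgroup G)) : g * c * g⁻¹ = c := by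
  obtain ⟨a, ha, b, hb, hab⟩ := P.split hgw
  have hcc : c * c = 1 := by
    rcases hc with rfl | rfl | rfl
    · exact TA.B.z_sq
    · exact TB.B.z_sq
    · rw [P.mul_mul TA.z_mem TB.z_mem, TA.B.z_sq, TB.B.z_sq, mul_one]
  have h1 : g * c * g⁻¹ = a * a * (b * b) := by
    rw [← hwc, DihProd.conj_mul, hab, P.mul_mul ha hb]
  have hne : g * c * g⁻¹ ≠ 1 := conj_ne_one (P.isC_ne TA TB hc)
  obtain ⟨ha2, hb2⟩ := P.sq_eq_one (mul_mem ha ha) (mul_mem hb hb) (by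
    rw [← h1]; exact conj_sq hcc)
  have h2 : P.IsC TA TB (g * c * g⁻¹) := by
    rcases TA.sq a ha ha2 with e | e <;> rcases TB.sq b hb hb2 with e' | e' <;> rw [e, e'] at h1
    · exact absurd (h1.trans (mul_one 1)) hne
    · exact Or.inr (Or.inl (h1.trans (one_mul _)))
    · exact Or.inl (h1.trans (mul_one _))
    · exact Or.inr (Or.inr h1)
  exact (P.distinct TA TB hc h2 (isConj_iff.2 ⟨g, rfl⟩)).symm

include TA in
/-- Without a normal subgroup of index two every involution is conjugate to one without reflection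
component. -/
theorem exists_conj_rot (hno : ∀ N : Subgroup G, N.Normal → N.index ≠ 2) {x : G} (hx : x * x = 1) :
    ∃ g : G, ∃ a ∈ P.E, ∃ b ∈ P.F, g * x * g⁻¹ = a * b ∧ (a = 1 ∨ a = TA.B.z) ∧ b * b = 1 := by
  obtain ⟨M, hM, hM2, hMinv⟩ := TA.rot
  have hodd : Odd (S : Subgroup G).index := by
    haveI : Fact (Nat.Prime 2) := ⟨Nat.prime_two⟩
    have := S.not_dvd_index
    exact Nat.odd_iff.2 (by omega)
  rcases CfsgLib.ThompsonTransfer.thompson_transfer (S : Subgroup G) (P.F ⊔ M) hodd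
    (P.swap.relIndex_sup hM hM2) hx with ⟨N, hN, hN2, -⟩ | ⟨g, hg⟩
  · exact absurd hN2 (hno N hN)
  obtain ⟨b, hb, a, ha, hab⟩ := (P.swap.mem_sup le_rfl hM).1 hg
  rw [(P.comm (hM ha) hb).symm.eq] at hab
  have h := P.sq_eq_one (hM ha) hb (by rw [← hab]; exact conj_sq hx)
  exact ⟨g, a, hM ha, b, hb, hab, hMinv a ha h.1, h.2⟩

/-- A reflection times a central element of the other factor is conjugate to `z`. -/
theorem exists_e (hno : ∀ N : Subgroup G, N.Normal → N.index ≠ 2) {β : G} (hβD : β ∈ P.E)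
    (hβ2 : β * β = 1) (hβ1 : β ≠ 1) :
    ∃ e, (e = 1 ∨ e = TB.B.z) ∧ IsConj (β * e) TA.B.z := by
  obtain ⟨g, a, ha, b, hb, hy, ha', -⟩ := P.exists_conj_rot TA hno hβ2
  obtain ⟨u, huS, hβu, hu⟩ := exists_extremal S (P.leE hβD)
  obtain ⟨g₁, hg₁, hg₁C⟩ := hu β hβu
  obtain ⟨g₂, hg₂, hg₂C⟩ := hu (a * b) ((isConj_iff.2 ⟨g, hy⟩).symm.trans hβu)
  obtain ⟨l, -, hl⟩ := DihProd.exists_root TA.B TA.even
  obtain ⟨m, -, hm⟩ := DihProd.exists_root TB.B TB.even
  have hrl := TA.rot_mem l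
  have hrm := TB.rot_mem m
  have hq₁c : Commute (TA.B.r ^ l) (a * b) :=
    Commute.mul_right (by rcases ha' with rfl | rfl; exacts [Commute.one_right _, TA.zc _ hrl])
      (P.comm hrl hb)
  have hq₁ := hg₂C _ (P.leE hrl) hq₁c
  have hq₁u := commute_conj g₂ hq₁c
  rw [hg₂] at hq₁u
  have hz₁ : g₂ * TA.B.z * g₂⁻¹ = TA.B.z := P.fix_square TA TB (Or.inl rfl) hl hq₁
  have hq₂c : Commute (TB.B.r ^ m) β := (P.comm hβD hrm).symm
  have hq₂ := hg₁C _ (P.leF hrm) hq₂c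
  have hq₂u := commute_conj g₁ hq₂c
  rw [hg₁] at hq₂u
  have hz₂ : g₁ * TB.B.z * g₁⁻¹ = TB.B.z := P.fix_square TA TB (Or.inr (Or.inl rfl)) hm hq₂
  obtain ⟨c, hc, d, hd, rfl⟩ := P.split huS
  have hu2 : c * d * (c * d) = 1 := by rw [← hg₁]; exact conj_sq hβ2
  obtain ⟨hcc, hdd⟩ := P.sq_eq_one hc hd hu2
  have hc' : c = 1 ∨ c = TA.B.z := by
    rcases TA.cases_inv hc hcc with h | h | ⟨j, rfl⟩
    · exact Or.inl h
    · exact Or.inr h
    exfalso
    obtain ⟨p, hp, q, hq, hpq⟩ := P.split hq₁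
    rw [hpq] at hq₁u
    refine TA.root_not_comm p hp ?_ j ((P.comm_iff hp hc hq hd).1 hq₁u).1
    refine (P.uniq (mul_mem hp hp) TA.z_mem (mul_mem hq hq) (one_mem _) ?_).1
    rw [← P.mul_mul hp hq, ← hpq, ← DihProd.conj_mul, hl, hz₁, mul_one]
  have hd' : d = 1 ∨ d = TB.B.z := by
    rcases TB.cases_inv hd hdd with h | h | ⟨j, rfl⟩
    · exact Or.inl h
    · exact Or.inr h
    exfalso
    obtain ⟨p, hp, q, hq, hpq⟩ := P.split hq₂
    rw [hpq] at hq₂u
    refine TB.root_not_comm q hq ?_ j ((P.comm_iff hp hc hq hd).1 hq₂u).2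
    refine (P.uniq (mul_mem hp hp) (one_mem _) (mul_mem hq hq) TB.z_mem ?_).2
    rw [← P.mul_mul hp hq, ← hpq, ← DihProd.conj_mul, hm, hz₂, one_mul]
  rcases hc' with rfl | rfl <;> rcases hd' with rfl | rfl
  · exact absurd (hg₁.trans (one_mul 1)) (conj_ne_one hβ1)
  · exfalso
    have h1 := conj_inj (hg₁.trans ((one_mul TB.B.z).trans hz₂.symm))
    exact hβ1 (P.eq_one hβD (h1 ▸ TB.z_mem))
  · exact ⟨1, Or.inl rfl, isConj_iff.2 ⟨g₁, by rw [mul_one, hg₁, mul_one]⟩⟩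
  · exact ⟨TB.B.z, Or.inr rfl, isConj_iff.2 ⟨g₁, by
      rw [DihProd.conj_mul, hg₁, hz₂, mul_assoc, TB.B.z_sq, mul_one]⟩⟩

theorem refl_mul_z (hR : P.Refl TA) {a : G} (ha : a ∈ P.E) (ha2 : a * a = 1) (ha1 : a ≠ 1) :
    IsConj (a * TB.B.z) (TA.B.z * TB.B.z) := by
  obtain ⟨g, hg, hgC⟩ := to_central S (P.central_zA TA) (hR a ha ha2 ha1)
  obtain ⟨m, -, hm⟩ := DihProd.exists_root TB.B TB.even
  have hrm := TB.rot_mem m
  have hz₂ := P.fix_square TA TB (g := g) (Or.inr (Or.inl rfl)) hm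
    (hgC _ (P.leF hrm) (P.comm ha hrm).symm)
  exact isConj_iff.2 ⟨g, by rw [DihProd.conj_mul, hg, hz₂]⟩

theorem refl_mul_refl_aux (hR : P.Refl TA) (hR' : P.swap.Refl TB) {α β : G} (hαD : α ∈ P.E)
    (hα2 : α * α = 1) (hα1 : α ≠ 1) (hβD : β ∈ P.F) (hβ2 : β * β = 1) (hβ1 : β ≠ 1) :
    IsConj (α * β) TB.B.z ∨ IsConj (α * β) (TA.B.z * TB.B.z) := by
  obtain ⟨g, hg, hgC⟩ := to_central S (P.central_zA TA) (hR α hαD hα2 hα1)
  obtain ⟨m, -, hm⟩ := DihProd.exists_root TB.B TB.even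
  have hz₂ := P.fix_square TA TB (g := g) (Or.inr (Or.inl rfl)) hm
    (hgC _ (P.leF (TB.rot_mem m)) (P.comm hαD (TB.rot_mem m)).symm)
  have hyS := hgC β (P.leF hβD) (P.comm hαD hβD).symm
  obtain ⟨a, ha, b, hb, hab⟩ := P.split hyS
  have hyz : IsConj (a * b) TB.B.z := (isConj_iff.2 ⟨g, hab⟩).symm.trans (hR' β hβD hβ2 hβ1)
  have himg : IsConj (α * β) (TA.B.z * (a * b)) :=
    isConj_iff.2 ⟨g, by rw [DihProd.conj_mul, hg, hab]⟩
  obtain ⟨haa, hbb⟩ := P.sq_eq_one ha hb (by rw [← hab]; exact conj_sq hβ2)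
  rcases TA.cases_inv ha haa with rfl | rfl | ⟨k, rfl⟩
  · rw [one_mul] at hab hyz himg
    by_cases hb1 : b = 1
    · subst hb1; exact absurd hab (conj_ne_one hβ1)
    refine Or.inr (himg.trans ?_)
    have h1 := P.swap.refl_mul_z TB TA hR' hb hbb hb1
    rwa [(P.comm TA.z_mem hb).symm.eq, (P.comm TA.z_mem TB.z_mem).symm.eq] at h1
  · exfalso
    by_cases hb1 : b = 1
    · subst hb1
      rw [mul_one] at hyz
      exact P.z_ne_z TA TB (P.distinct TA TB (Or.inl rfl) (Or.inr (Or.inl rfl)) hyz)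
    have h1 := P.swap.refl_mul_z TB TA hR' hb hbb hb1
    rw [(P.comm TA.z_mem hb).symm.eq, (P.comm TA.z_mem TB.z_mem).symm.eq] at h1
    exact P.ne_mul TA TB (P.distinct TA TB (Or.inr (Or.inr rfl)) (Or.inr (Or.inl rfl)) (h1.symm.trans hyz))
  · refine Or.inl (himg.trans (IsConj.trans (IsConj.symm ?_) hyz))
    obtain ⟨t, ht, htc⟩ := DihProd.refl_z_conj TA.B TA.even k
    refine isConj_iff.2 ⟨t, ?_⟩
    rw [DihProd.conj_mul, htc, (P.comm (TA.W_le ht) hb).eq, mul_inv_cancel_right,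
      (TA.zc _ (TA.refl_mem k)).eq, mul_assoc]

theorem refl_mul_refl (hR : P.Refl TA) (hR' : P.swap.Refl TB) {α β : G} (hαD : α ∈ P.E)
    (hα2 : α * α = 1) (hα1 : α ≠ 1) (hβD : β ∈ P.F) (hβ2 : β * β = 1) (hβ1 : β ≠ 1) :
    IsConj (α * β) (TA.B.z * TB.B.z) := by
  rcases P.refl_mul_refl_aux TA TB hR hR' hαD hα2 hα1 hβD hβ2 hβ1 with h | h
  · have h2 := P.swap.refl_mul_refl_aux TB TA hR' hR hβD hβ2 hβ1 hαD hα2 hα1
    rw [(P.comm hαD hβD).symm.eq, (P.comm TA.z_mem TB.z_mem).symm.eq] at h2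
    rcases h2 with h2 | h2
    · exact absurd (P.distinct TA TB (Or.inl rfl) (Or.inr (Or.inl rfl)) (h2.symm.trans h))
        (P.z_ne_z TA TB)
    · exact h2
  · exact h

theorem inv_closed (hR : P.Refl TA) (hR' : P.swap.Refl TB) {a : G} (ha : a ∈ P.E) (ha2 : a * a = 1)
    {g : G} (hg : g * a * g⁻¹ ∈ (S : Subgroup G)) : g * a * g⁻¹ ∈ P.E := by
  by_cases ha1 : a = 1
  · subst ha1; simp
  have haz := hR a ha ha2 ha1
  obtain ⟨c, hc, d, hd, hcd⟩ := P.split hg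
  obtain ⟨hcc, hdd⟩ := P.sq_eq_one hc hd (by rw [← hcd]; exact conj_sq ha2)
  by_cases hd1 : d = 1
  · rw [hcd, hd1, mul_one]; exact hc
  exfalso
  have hyz : IsConj (c * d) TA.B.z := (isConj_iff.2 ⟨g, hcd⟩).symm.trans haz
  by_cases hc1 : c = 1
  · rw [hc1, one_mul] at hyz
    exact P.z_ne_z TA TB (P.distinct TA TB (Or.inl rfl) (Or.inr (Or.inl rfl))
      (hyz.symm.trans (hR' d hd hdd hd1)))
  exact P.ne_mul' TA TB (P.distinct TA TB (Or.inr (Or.inr rfl)) (Or.inl rfl)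
    ((P.refl_mul_refl TA TB hR hR' hc hcc hc1 hd hdd hd1).symm.trans hyz))

end Pair

end CfsgLib.SDProd
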