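import Cfsg.Agent.SDProd.CaseA

/-!
The choice of the two complements when both factors are non-abelian.
-/

set_option autoImplicit false
set_option linter.unusedSectionVars false
set_option linter.style.haveILetI false

namespace CfsgLib.SDProd

open Subgroup

universe u

variable {G : Type u} [Group G] [Finite G] {S : Sylow 2 G}

/-- A dihedral group of order at least eight, or a semidihedral group. -/
def Kind (D : Subgroup G) : Prop :=
  (∃ m : ℕ, 4 ≤ m ∧ Nonempty (↥D ≃* DihedralGroup m)) ∨ Cfsg.IsQuasiDihedral ↥D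

theorem isQuasiDihedral_equiv {A B : Type*} [Group A] [Group B] (e : A ≃* B)
    (h : Cfsg.IsQuasiDihedral A) : Cfsg.IsQuasiDihedral B := by
  obtain ⟨n, hn, hc, x, y, hx, hy, hxy⟩ := h
  exact ⟨n, hn, (Nat.card_congr e.toEquiv).symm.trans hc, e x, e y, e.orderOf_eq x ▸ hx,
    e.orderOf_eq y ▸ hy, by rw [← map_inv, ← map_mul, ← map_mul, hxy, map_pow]⟩

theorem Kind.equiv {D D' : Subgroup G} (e : ↥D ≃* ↥D') (h : Kind D) : Kind D' := by
  rcases h with ⟨m, hm, ⟨e1⟩⟩ | h
  · exact Or.inl ⟨m, hm, ⟨e.symm.trans e1⟩⟩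
  · exact Or.inr (isQuasiDihedral_equiv e h)

theorem exists_big {D : Subgroup G} (hS : D ≤ (S : Subgroup G)) (h : Kind D) : Nonempty (Big D) := by
  rcases h with ⟨m, hm, e⟩ | h
  · exact exists_big_dihedral (S.2.to_le hS) hm e
  · obtain ⟨A⟩ := exists_sd h
    obtain ⟨T, -⟩ := exists_big_sd A
    exact ⟨T⟩

/-- The homomorphism from a group of order two. -/
theorem exists_hom_two {e : G} (he : e * e = 1) :
    ∃ f : Multiplicative (ZMod 2) →* G, f (Multiplicative.ofAdd 1) = e := by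
  classical
  refine ⟨MonoidHom.mk' (fun t => if t = 1 then 1 else e) fun a b => ?_, ?_⟩
  swap
  · show (if Multiplicative.ofAdd (1 : ZMod 2) = 1 then 1 else e) = e
    exact if_neg (by decide)
  have key : ∀ a b : Multiplicative (ZMod 2), a ≠ 1 → b ≠ 1 → a * b = 1 := by decide
  by_cases ha : a = 1
  · simp [ha]
  by_cases hb : b = 1
  · simp [hb]
  simp [ha, hb, key a b ha hb, he]

namespace Pair

variable (P : Pair S) (TA : Big P.E) (TB : Big P.F)

theorem inv_dihedral_cases {m : ℕ} (e : ↥P.E ≃* DihedralGroup m) (hm : 4 ≤ m) {a : P.E}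
    (h : a * a = 1) : (∀ q, q * a = a * q) ∨ ∃ j : ZMod m, e a = DihedralGroup.sr j := by
  rcases hc : e a with j | j
  · left
    intro q
    apply e.injective
    have h2 : e a * e a = 1 := by rw [← map_mul, h, map_one]
    rw [hc, DihedralGroup.r_mul_r] at h2
    have hj : j + j = 0 := DihedralGroup.r.inj h2
    rw [map_mul, map_mul, hc]
    rcases e q with i | i
    · rw [DihedralGroup.r_mul_r, DihedralGroup.r_mul_r, add_comm]
    · rw [DihedralGroup.sr_mul_r, DihedralGroup.r_mul_sr]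
      congr 1
      linear_combination hj
  · exact Or.inr ⟨j, rfl⟩

include TB in
theorem exists_phi (hno : ∀ N : Subgroup G, N.Normal → N.index ≠ 2) (hK : Kind P.E) :
    ∃ φ : P.E →* G, (∀ a, φ a ∈ P.F ∧ ∀ q ∈ P.F, Commute q (φ a)) ∧
      ∀ a : P.E, a * a = 1 → a ≠ 1 →
        ((a : G) = TA.B.z → φ a = 1) ∧ IsConj ((a : G) * φ a) TA.B.z := by
  classical
  have hcen : ∀ e : G, (e = 1 ∨ e = TB.B.z) → e ∈ P.F ∧ (∀ q ∈ P.F, Commute q e) ∧ e * e = 1 := by
    rintro e (rfl | rfl)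
    · exact ⟨one_mem _, fun q _ => Commute.one_right q, one_mul 1⟩
    · exact ⟨TB.z_mem, TB.zc, TB.B.z_sq⟩
  have conjmove : ∀ {φ : P.E →* G}, (∀ a, φ a ∈ P.F ∧ ∀ q ∈ P.F, Commute q (φ a)) → ∀ t a : P.E,
      IsConj ((a : G) * φ a) TA.B.z → IsConj (((t * a * t⁻¹ : P.E) : G) * φ (t * a * t⁻¹)) TA.B.z := by
    intro φ hφ t a h
    refine IsConj.trans (IsConj.symm (isConj_iff.2 ⟨t, ?_⟩)) h
    have h1 : φ (t * a * t⁻¹) = φ a := by
      rw [map_mul, map_mul, map_inv, ((hφ a).2 _ (hφ t).1).eq, mul_inv_cancel_right]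
    rw [h1, Subgroup.coe_mul, Subgroup.coe_mul, Subgroup.coe_inv, DihProd.conj_mul,
      (P.comm t.2 (hφ a).1).eq, mul_inv_cancel_right]
  have hz1 : ∀ a : P.E, (∀ q, q * a = a * q) → a * a = 1 → a ≠ 1 → (a : G) = TA.B.z := by
    intro a hc _ h1
    exact (TA.central a a.2 fun q hq => congrArg Subtype.val (hc ⟨q, hq⟩)).resolve_left
      fun h => h1 (Subtype.ext h)
  rcases hK with ⟨m, hm, ⟨e⟩⟩ | hQ
  · -- dihedral
    have hev : 2 ∣ m := by
      have h1 : Nat.card P.E = 2 * m := (Nat.card_congr e.toEquiv).trans DihedralGroup.nat_card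
      obtain ⟨n, hn⟩ := IsPGroup.iff_card.1 (S.2.to_le P.hp.1)
      rcases n with _ | _ | n
      · rw [hn] at h1; norm_num at h1; omega
      · rw [hn] at h1; norm_num at h1; omega
      · exact ⟨2 ^ n, by rw [hn, pow_succ, pow_succ] at h1; omega⟩
    let par : ZMod m →+* ZMod 2 := ZMod.castHom hev (ZMod 2)
    have hsr : ∀ i : ZMod m, (DihedralGroup.sr i : DihedralGroup m) * DihedralGroup.sr i = 1 := fun i => by
      simp
    have hrep : ∀ i : ZMod m, ∃ c, (c = 1 ∨ c = TB.B.z) ∧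
        IsConj ((e.symm (DihedralGroup.sr i) : G) * c) TA.B.z := fun i => by
      refine P.exists_e TA TB hno (e.symm (DihedralGroup.sr i)).2 ?_ fun h => ?_
      · rw [← Subgroup.coe_mul, ← map_mul, hsr, map_one]; rfl
      · have := congrArg e (Subtype.ext h : e.symm (DihedralGroup.sr i) = 1)
        simp only [MulEquiv.apply_symm_apply, map_one, DihedralGroup.one_def] at this
        cases this
    obtain ⟨c₀, hc₀, hg₀⟩ := hrep 0
    obtain ⟨c₁, hc₁, hg₁⟩ := hrep 1
    obtain ⟨f, hf⟩ := exists_hom_two TB.B.z_sq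
    let b₀ : ZMod 2 := if c₀ = 1 then 0 else 1
    let b₁ : ZMod 2 := if c₁ = 1 then 0 else 1
    have hb : ∀ c : G, (c = 1 ∨ c = TB.B.z) → f (Multiplicative.ofAdd (if c = 1 then (0 : ZMod 2) else 1)) = c := by
      intro c hc
      by_cases h : c = 1
      · simp [h]
      · rw [if_neg h, hf, hc.resolve_left h]
    let θ : DihedralGroup m →* Multiplicative (ZMod 2) := MonoidHom.mk' (fun g => Multiplicative.ofAdd
      (match g with
        | DihedralGroup.r i => (b₁ - b₀) * par i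
        | DihedralGroup.sr i => b₀ + (b₁ - b₀) * par i)) (by
      rintro (i | i) (j | j) <;> rw [← ofAdd_add] <;> congr 1
      · simp [DihedralGroup.r_mul_r, mul_add]
      · simp [DihedralGroup.r_mul_sr, mul_sub]
        generalize b₁ - b₀ = d; generalize par i = p; generalize par j = q; generalize b₀ = c
        revert d p q c; decide
      · simp [DihedralGroup.sr_mul_r, mul_add, add_assoc]
      · simp [DihedralGroup.sr_mul_sr, mul_sub]
        generalize b₁ - b₀ = d; generalize par i = p; generalize par j = q; generalize b₀ = c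
        revert d p q c; decide)
    let φ : P.E →* G := (f.comp θ).comp e.toMonoidHom
    have hφ : ∀ a, φ a ∈ P.F ∧ ∀ q ∈ P.F, Commute q (φ a) := fun a => by
      have : ∀ t : Multiplicative (ZMod 2), f t = 1 ∨ f t = TB.B.z := by
        intro t
        rcases (by revert t; decide : ∀ t : Multiplicative (ZMod 2), t = 1 ∨ t = Multiplicative.ofAdd 1) t
          with rfl | rfl
        · exact Or.inl (map_one f)
        · exact Or.inr hf
      exact ⟨(hcen _ (this _)).1, (hcen _ (this _)).2.1⟩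
    refine ⟨φ, hφ, fun a h2 h1 => ?_⟩
    rcases P.inv_dihedral_cases e hm h2 with hc | ⟨j, hj⟩
    · have hz := hz1 a hc h2 h1
      have hφ1 : φ a = 1 := by
        obtain ⟨l, -, hl⟩ := DihProd.exists_root TA.B TA.even
        rw [show a = (⟨_, TA.rot_mem l⟩ : P.E) * ⟨_, TA.rot_mem l⟩ from Subtype.ext (hz.trans hl.symm),
          map_mul]
        show f _ * f _ = 1
        rw [← map_mul, show ∀ t : Multiplicative (ZMod 2), t * t = 1 by decide, map_one]
      exact ⟨fun _ => hφ1, by rw [hφ1, mul_one, hz]⟩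
    · refine ⟨fun hz => ?_, ?_⟩
      · exfalso
        have hc : ∀ q : P.E, q * a = a * q := fun q => Subtype.ext (by
          show (q : G) * a = a * q; rw [hz]; exact (TA.zc q q.2).eq)
        have h3 := congrArg e (hc (e.symm (DihedralGroup.r 1)))
        rw [map_mul, map_mul, MulEquiv.apply_symm_apply, hj, DihedralGroup.r_mul_sr,
          DihedralGroup.sr_mul_r] at h3
        have h4 : ((2 : ℕ) : ZMod m) = 0 := by
          push_cast
          linear_combination -(DihedralGroup.sr.inj h3)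
        rw [ZMod.natCast_eq_zero_iff] at h4
        have := Nat.le_of_dvd two_pos h4
        omega
      obtain ⟨k, hk⟩ : ∃ k : ZMod m, j = 0 - 2 * k ∨ j = 1 - 2 * k := by
        haveI : NeZero m := ⟨by omega⟩
        rcases Nat.even_or_odd' j.val with ⟨t, ht | ht⟩
        · exact ⟨-(t : ZMod m), Or.inl (by rw [← ZMod.natCast_zmod_val j, ht]; push_cast; ring)⟩
        · exact ⟨-(t : ZMod m), Or.inr (by rw [← ZMod.natCast_zmod_val j, ht]; push_cast; ring)⟩
      have hbase : ∀ i : ZMod m, (i = 0 ∨ i = 1) →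
          IsConj ((e.symm (DihedralGroup.sr i) : G) * φ (e.symm (DihedralGroup.sr i))) TA.B.z := by
        rintro i (rfl | rfl)
        · convert hg₀ using 3
          simp [φ, θ, b₀, hb c₀ hc₀]
        · convert hg₁ using 3
          simp [φ, θ, b₁, hb c₁ hc₁]
      have hmove : ∀ i : ZMod m, (i = 0 ∨ i = 1) → j = i - 2 * k → IsConj ((a : G) * φ a) TA.B.z := by
        intro i hi hji
        have ha : a = e.symm (DihedralGroup.r k) * e.symm (DihedralGroup.sr i) *
            (e.symm (DihedralGroup.r k))⁻¹ := by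
          apply e.injective
          simp [hj, hji]
          ring
        rw [ha]
        exact conjmove hφ _ _ (hbase i hi)
      rcases hk with hk | hk
      · exact hmove 0 (Or.inl rfl) hk
      · exact hmove 1 (Or.inr rfl) hk
  · -- semidihedral
    obtain ⟨A⟩ := exists_sd hQ
    have hyinv : A.y * A.y = 1 := A.yy
    obtain ⟨c, hc, hg⟩ := P.exists_e TA TB hno A.yD hyinv fun h => A.y_not 0 (by rw [zpow_zero, h])
    set K := (zpowers A.x).subgroupOf P.E with hKdef
    have hKi : K.index = 2 := by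
      have h1 := K.index_mul_card
      rw [Nat.card_congr (subgroupOfEquivOfLe (zpowers_le.2 A.xD)).toEquiv, Nat.card_zpowers, A.hx,
        A.card_eq] at h1
      have := A.q_pos
      nlinarith
    obtain ⟨φ, hφK⟩ := exists_sign hKi (hcen c hc).2.2
    have hφ : ∀ a, φ a ∈ P.F ∧ ∀ q ∈ P.F, Commute q (φ a) := fun a => by
      by_cases h : a ∈ K
      · rw [(hφK a).1 h]; exact ⟨one_mem _, fun q _ => Commute.one_right q⟩
      · rw [(hφK a).2 h]; exact ⟨(hcen c hc).1, (hcen c hc).2.1⟩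
    refine ⟨φ, hφ, fun a h2 h1 => ?_⟩
    rcases A.inv_cases a.2 (congrArg Subtype.val h2 :) with h | h | ⟨i, h⟩
    · exact absurd (Subtype.ext h) h1
    · have hφ1 : φ a = 1 := (hφK a).1 (mem_subgroupOf.2 (h ▸ zpow_mem (mem_zpowers _) _))
      have hz : (a : G) = TA.B.z := hz1 a (fun q => Subtype.ext (by
        show (q : G) * a = a * q
        rw [h]
        obtain ⟨T, -, -, hTz⟩ := exists_big_sd A
        exact (hTz ▸ T.zc q q.2).eq)) h2 h1
      exact ⟨fun _ => hφ1, by rw [hφ1, mul_one, hz]⟩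
    · refine ⟨fun hz => ?_, ?_⟩
      · exfalso
        have h3 : Commute (A.x ^ (1 : ℤ)) (A.x ^ (2 * i) * A.y) := by
          rw [← h, hz]; exact TA.zc _ (zpow_mem A.xD 1)
        rcases A.rot_comm_refl h3 with h4 | h4
        · rw [A.zpow_eq_one_iff] at h4
          have := Int.le_of_dvd one_pos h4
          have := A.q_pos
          omega
        · rw [SD.z, A.zpow_eq_iff, ← dvd_neg] at h4
          have := A.q_pos
          have := Int.le_of_dvd (by omega) h4
          omega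
      · set k : ℤ := i * (1 - 2 * (A.q : ℤ)) with hk
        have ha : a = (⟨_, zpow_mem A.xD k⟩ : P.E) * ⟨A.y, A.yD⟩ * (⟨_, zpow_mem A.xD k⟩ : P.E)⁻¹ := by
          refine Subtype.ext ?_
          rw [h]
          show _ = A.x ^ k * A.y * (A.x ^ k)⁻¹
          rw [← zpow_neg, A.refl_rot, mul_left_inj, A.zpow_eq_iff]
          exact ⟨i * (1 - (A.q : ℤ)), by rw [hk]; ring⟩
        rw [ha]
        refine conjmove hφ _ _ ?_
        rw [(hφK ⟨A.y, A.yD⟩).2 fun hy => ?_]
        · exact hg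
        · obtain ⟨l, hl⟩ := mem_zpowers_iff.1 (mem_subgroupOf.1 hy)
          exact A.y_not l hl

include TA TB in
theorem exists_good (hno : ∀ N : Subgroup G, N.Normal → N.index ≠ 2) (hK : Kind P.E) :
    ∃ Q : Pair S, Q.F = P.F ∧ Nonempty (↥P.E ≃* ↥Q.E) ∧ ∃ T : Big Q.E, Q.Refl T := by
  obtain ⟨φ, hφ, hgood⟩ := P.exists_phi TA TB hno hK
  obtain ⟨Q, hQF, e, he⟩ := P.exists_graph φ hφ
  have hKQ := hK.equiv e
  obtain ⟨T⟩ := exists_big (fun _ h => Q.leE h) hKQ
  refine ⟨Q, hQF, ⟨e⟩, T, ?_⟩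
  have hzne : (⟨TA.B.z, TA.z_mem⟩ : P.E) ≠ 1 := fun h => TA.B.z_ne (congrArg Subtype.val h)
  have hz2 : (⟨TA.B.z, TA.z_mem⟩ : P.E) * ⟨TA.B.z, TA.z_mem⟩ = 1 := Subtype.ext TA.B.z_sq
  have hφz := (hgood _ hz2 hzne).1 rfl
  have hTz : T.B.z = TA.B.z := by
    have h1 : (e ⟨TA.B.z, TA.z_mem⟩ : G) = TA.B.z := by rw [he, hφz, mul_one]
    rcases T.central TA.B.z (h1 ▸ (e _).2) (fun q hq => (P.central_zA TA).2 q (Q.leE hq)) with h | h
    · exact absurd h TA.B.z_ne
    · exact h.symm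
  intro a ha ha2 ha1
  obtain ⟨b, hb⟩ := e.surjective ⟨a, ha⟩
  have hb2 : b * b = 1 := e.injective (by rw [map_mul, hb, map_one]; exact Subtype.ext ha2)
  have hb1 : b ≠ 1 := fun h => ha1 (by rw [h, map_one] at hb; exact (congrArg Subtype.val hb).symm)
  rw [hTz, show a = (b : G) * φ b from (congrArg Subtype.val hb).symm.trans (he b)]
  exact (hgood b hb2 hb1).2

end Pair

/-- Involutions of a factor stay in it under conjugation into `S`. -/
def InvClosed (S : Sylow 2 G) (E : Subgroup G) : Prop :=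
  ∀ a ∈ E, a * a = 1 → ∀ g : G, g * a * g⁻¹ ∈ (S : Subgroup G) → g * a * g⁻¹ ∈ E

/-- The involutions of a factor fuse into its centre. -/
def ToCentral (E : Subgroup G) : Prop :=
  ∀ a ∈ E, a * a = 1 → ∃ c ∈ E, c * c = 1 ∧ (∀ q ∈ E, Commute q c) ∧ IsConj a c

/-- What the involutions give. -/
structure InvGood (P : Pair S) : Prop where
  closedE : InvClosed S P.E
  closedF : InvClosed S P.F
  centralE : ToCentral P.E
  centralF : ToCentral P.F

theorem Pair.toCentral_of_refl (P : Pair S) (T : Big P.E) (hR : P.Refl T) : ToCentral P.E := by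
  intro a ha ha2
  by_cases h : a = 1
  · exact ⟨1, one_mem _, one_mul 1, fun q _ => Commute.one_right q, by rw [h]⟩
  · exact ⟨T.B.z, T.z_mem, T.B.z_sq, T.zc, hR a ha ha2 h⟩

/-- Both factors non-abelian. -/
theorem main_A (hno : ∀ N : Subgroup G, N.Normal → N.index ≠ 2) (P : Pair S) (hE : Kind P.E)
    (hF : Kind P.F) :
    ∃ Q : Pair S, InvGood Q ∧ Nonempty (↥P.E ≃* ↥Q.E) ∧ Nonempty (↥P.F ≃* ↥Q.F) := by
  obtain ⟨TA⟩ := exists_big (fun _ h => P.leE h) hE
  obtain ⟨TB⟩ := exists_big (fun _ h => P.leF h) hF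
  obtain ⟨⟨E₁, F₁, hp₁⟩, hF₁, ⟨e₁⟩, T, hR⟩ := P.exists_good TA TB hno hE
  change F₁ = P.F at hF₁
  subst hF₁
  obtain ⟨⟨F₂, E₂, hp₂⟩, hE₂, ⟨e₂⟩, T', hR'⟩ := (Pair.swap ⟨E₁, P.F, hp₁⟩).exists_good TB T hno hF
  change E₂ = E₁ at hE₂
  subst hE₂
  let R : Pair S := Pair.swap ⟨F₂, E₂, hp₂⟩
  have h1 : R.Refl T := hR
  have h2 : R.swap.Refl T' := hR'
  exact ⟨R, ⟨fun a ha ha2 g hg => R.inv_closed T T' h1 h2 ha ha2 hg,
    fun a ha ha2 g hg => R.swap.inv_closed T' T h2 h1 ha ha2 hg, R.toCentral_of_refl T h1,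
    R.swap.toCentral_of_refl T' h2⟩, ⟨e₁⟩, ⟨e₂⟩⟩

end CfsgLib.SDProd
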