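import Cfsg.Agent.SDProd.CaseAMain
import Cfsg.Agent.InvolFixFour.Tools

/-!
A semidihedral factor is strongly closed, once the involutions are controlled: elements of order four
by transfer, the others by the odd action of `N(E × ⟨x⟩)` on the cyclic complements.
-/

set_option autoImplicit false
set_option linter.unusedSectionVars false
set_option linter.style.haveILetI false

namespace CfsgLib.SDProd

open Subgroup
open CfsgLib.DihProd (IsCentralIn conj_sq to_central conj_eq_iff)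

universe u

variable {G : Type u} [Group G] [Finite G] {S : Sylow 2 G}

theorem InvClosed.map_W {E : Subgroup G} (hc : InvClosed S E) (T : Factor E) {g : G}
    (hg : ∀ a ∈ E, a * a = 1 → g * a * g⁻¹ ∈ (S : Subgroup G)) {w : G} (hw : w ∈ T.W) :
    g * w * g⁻¹ ∈ T.W := by
  have hle : closure {a | a ∈ E ∧ a * a = 1} ≤ T.W.comap (MulAut.conj g).toMonoidHom := by
    refine (closure_le _).2 ?_
    rintro a ⟨ha, ha2⟩
    exact T.inv_mem _ (hc a ha ha2 g (hg a ha ha2)) (conj_sq ha2)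
  exact hle (T.gen hw)

theorem InvClosed.map_W_surj {E : Subgroup G} (hc : InvClosed S E) (T : Factor E) {g : G}
    (hg : ∀ a ∈ E, a * a = 1 → g * a * g⁻¹ ∈ (S : Subgroup G)) {v : G} (hv : v ∈ T.W) :
    ∃ w ∈ T.W, g * w * g⁻¹ = v := by
  have hle : T.W.map (MulAut.conj g).toMonoidHom ≤ T.W := by
    rintro _ ⟨w, hw, rfl⟩; exact hc.map_W T hg hw
  have h := eq_of_le_of_card_ge hle (card_map_of_injective (MulAut.conj g).injective).ge
  rw [← h] at hv
  obtain ⟨w, hw, e⟩ := hv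
  exact ⟨w, hw, e⟩

/-- An element commuting with the image of `W` is central of order at most two. -/
theorem InvClosed.cent_image {E : Subgroup G} (hc : InvClosed S E) (T : Factor E) {g p : G}
    (hg : ∀ a ∈ E, a * a = 1 → g * a * g⁻¹ ∈ (S : Subgroup G)) (hp : p ∈ E)
    (h : ∀ w ∈ T.W, Commute (g * w * g⁻¹) p) : p * p = 1 ∧ ∀ q ∈ E, Commute q p := by
  refine T.cent p hp fun v hv => ?_
  obtain ⟨w, hw, rfl⟩ := hc.map_W_surj T hg hv
  exact h w hw

namespace SD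

variable {D : Subgroup G} (A : SD D)

theorem refl_pow_cases {i : ℤ} :
    A.x ^ i * A.y * (A.x ^ i * A.y) = 1 ∨ A.x ^ i * A.y * (A.x ^ i * A.y) = A.z := by
  by_cases h : 2 ∣ i
  · exact Or.inl (A.refl_sq_one_iff.2 h)
  · exact Or.inr (A.refl_sq_odd h)

theorem root_eq {l : ℤ} (h : A.x ^ l * A.x ^ l = A.z) :
    A.x ^ l = A.x ^ (2 * (A.q : ℤ)) ∨ A.x ^ l = A.x ^ (-(2 * (A.q : ℤ))) := by
  rw [← zpow_add, z, A.zpow_eq_iff] at h
  obtain ⟨c, hc⟩ := h
  rcases Int.even_or_odd c with ⟨j, rfl⟩ | ⟨j, rfl⟩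
  · exact Or.inl (A.zpow_eq_iff.2 ⟨j, by linarith⟩)
  · exact Or.inr (A.zpow_eq_iff.2 ⟨j + 1, by linarith⟩)

theorem root_sq : A.x ^ (2 * (A.q : ℤ)) * A.x ^ (2 * (A.q : ℤ)) = A.z := by
  rw [← zpow_add, z]; congr 1; ring

theorem y_conj_root : A.y * A.x ^ (2 * (A.q : ℤ)) * A.y⁻¹ = A.x ^ (-(2 * (A.q : ℤ))) := by
  rw [A.y_mul, mul_inv_cancel_right, A.zpow_eq_iff]
  exact ⟨(A.q : ℤ), by ring⟩

end SD

namespace Pair

variable (P : Pair S) (T : Factor P.E) (A : SD P.F)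

theorem central_inE {c : G} (hc : c ∈ P.E) (hcc : ∀ q ∈ P.E, Commute q c) : IsCentralIn S c := by
  have h := P.isCentralIn hc (one_mem _) hcc fun q _ => Commute.one_right q
  rwa [mul_one] at h

theorem fix_z (hF : InvClosed S P.F) {g w : G} (hw : w * w = A.z) (hgw : g * w * g⁻¹ ∈ (S : Subgroup G)) :
    g * A.z * g⁻¹ = A.z := by
  obtain ⟨a, ha, b, hb, hab⟩ := P.split hgw
  have h1 : g * A.z * g⁻¹ = a * a * (b * b) := by rw [← hw, DihProd.conj_mul, hab, P.mul_mul ha hb]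
  have hzz : A.z * A.z = 1 := by
    rw [SD.z, ← zpow_add, A.zpow_eq_one_iff]; exact ⟨1, by ring⟩
  have hz : g * A.z * g⁻¹ ∈ P.F := hF A.z (zpow_mem A.xD _) hzz g
    (h1 ▸ P.mem (mul_mem ha ha) (mul_mem hb hb))
  have h2 := (P.uniq (mul_mem ha ha) (one_mem _) (mul_mem hb hb) hz (h1.symm.trans (one_mul _).symm))
  rw [h2.1, one_mul] at h1
  rw [h1]
  have hne : b * b ≠ 1 := fun h => A.z_ne (conj_eq_one_iff.1 (h1.trans h))
  obtain ⟨i, rfl | rfl⟩ := A.cases b hb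
  · have h3 := conj_sq (g := g) hzz
    rw [h1, ← zpow_add, ← zpow_add, A.zpow_eq_one_iff, show i + i + (i + i) = 2 * (i + i) by ring,
      show (8 : ℤ) * A.q = 2 * (4 * A.q) by ring, mul_dvd_mul_iff_left two_ne_zero] at h3
    rw [← zpow_add] at hne ⊢
    exact (A.rot_sq_cases h3).resolve_left hne
  · exact A.refl_pow_cases.resolve_left hne

/-- A conjugator carrying the involutions of the second factor preserves the rotational roots. -/
theorem map_root (hF : InvClosed S P.F) {g : G}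
    (hg : ∀ b ∈ P.F, b * b = 1 → g * b * g⁻¹ ∈ (S : Subgroup G)) :
    IsConj (g * A.x ^ (2 * (A.q : ℤ)) * g⁻¹) (A.x ^ (2 * (A.q : ℤ))) ∧
      (g * A.x ^ (2 * (A.q : ℤ)) * g⁻¹ = A.x ^ (2 * (A.q : ℤ)) ∨
        g * A.x ^ (2 * (A.q : ℤ)) * g⁻¹ = A.x ^ (-(2 * (A.q : ℤ)))) := by
  obtain ⟨TB, hTr, hTs, -⟩ := exists_big_sd A
  refine ⟨(isConj_iff.2 ⟨g, rfl⟩).symm, ?_⟩
  have hmem : A.x ^ (2 * (A.q : ℤ)) ∈ TB.W := by
    rw [zpow_mul, ← hTr]; exact zpow_mem TB.B.rS _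
  have h1 := hF.map_W TB.toFactor hg hmem
  have h2 : g * A.x ^ (2 * (A.q : ℤ)) * g⁻¹ * (g * A.x ^ (2 * (A.q : ℤ)) * g⁻¹) = A.z := by
    rw [← DihProd.conj_mul, A.root_sq]
    exact P.fix_z A hF A.root_sq (P.leF (TB.W_le h1))
  obtain ⟨i, e | e⟩ := TB.B.cases _ h1
  · rw [hTr, ← zpow_mul] at e
    rw [e] at h2 ⊢
    exact A.root_eq h2
  · rw [hTr, hTs, ← zpow_mul] at e
    rw [e, A.refl_sq_one_iff.2 (dvd_mul_right 2 i)] at h2
    exact absurd h2.symm A.z_ne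

theorem card_rot_le_cent (m : ℤ) :
    8 * A.q ≤ Nat.card ↥(P.F ⊓ centralizer ({A.x ^ m} : Set G)) := by
  rw [← A.hx, ← Nat.card_zpowers]
  refine Nat.card_le_card_of_injective _ (inclusion_injective ?_)
  exact zpowers_le.2 ⟨A.xD, mem_centralizer_singleton_iff.2 ((Commute.refl A.x).zpow_right m).eq⟩

theorem card_cent_le {b : G} (hnc : ∃ r ∈ P.F, ¬ Commute r b) :
    Nat.card ↥(P.F ⊓ centralizer ({b} : Set G)) ≤ 8 * A.q := by
  set K := P.F ⊓ centralizer ({b} : Set G)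
  have h1 := (K.subgroupOf P.F).index_mul_card
  rw [Nat.card_congr (subgroupOfEquivOfLe (inf_le_left : K ≤ P.F)).toEquiv, A.card_eq] at h1
  have h2 : (K.subgroupOf P.F).index ≠ 1 := by
    rw [Ne, index_eq_one, subgroupOf_eq_top]
    intro h
    obtain ⟨r, hr, hrb⟩ := hnc
    exact hrb (mem_centralizer_singleton_iff.1 (h hr).2)
  have h3 : (K.subgroupOf P.F).index ≠ 0 := index_ne_zero_of_finite
  have h4 : 2 ≤ (K.subgroupOf P.F).index := by omega
  nlinarith [Nat.mul_le_mul_right (Nat.card K) h4]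

/-- A rotation of order at least four times a central involution is extremal. -/
theorem rot_extremal (hF : InvClosed S P.F) {c : G} (hc : c ∈ P.E) (hcc : ∀ q ∈ P.E, Commute q c)
    (hc2 : c * c = 1) {m : ℤ} (hm : A.x ^ m * A.x ^ m ≠ 1) {y : G} (hy : IsConj y (c * A.x ^ m)) :
    ∃ g : G, g * y * g⁻¹ = c * A.x ^ m ∧
      ∀ q ∈ (S : Subgroup G), Commute q y → g * q * g⁻¹ ∈ (S : Subgroup G) := by
  refine P.conj_into hc hcc (zpow_mem A.xD m) (fun a ha b hb hab => ?_) hy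
  refine (P.card_cent_le A ?_).trans (P.card_rot_le_cent A m)
  by_contra hcon
  push Not at hcon
  -- a power of `c x ^ m` is `z`
  have hb2 : b * b = 1 := by
    obtain ⟨TB, -, -, -⟩ := exists_big_sd A
    exact (TB.cent b hb fun w hw => hcon w (TB.W_le hw)).1
  obtain ⟨g, hg⟩ := isConj_iff.1 hab
  obtain ⟨j, hj⟩ : ∃ j : ℕ, (A.x ^ m) ^ (2 * j) = A.z := by
    have hdvd : orderOf (A.x ^ m) ∣ 8 * A.q := A.hx ▸ orderOf_dvd_of_mem_zpowers (zpow_mem (mem_zpowers _) m)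
    rw [A.hq, show 8 * 2 ^ A.k = 2 ^ (A.k + 3) by ring] at hdvd
    obtain ⟨o, -, ho⟩ := (Nat.dvd_prime_pow Nat.prime_two).1 hdvd
    rcases o with _ | _ | o
    · rw [pow_zero, orderOf_eq_one_iff] at ho; rw [ho] at hm; exact absurd (one_mul 1) hm
    · exact absurd (by rw [← sq, ← pow_orderOf_eq_one (A.x ^ m), ho, pow_one]) hm
    refine ⟨2 ^ o, ?_⟩
    set t := (A.x ^ m) ^ (2 * 2 ^ o) with ht
    have ht2 : t * t = 1 := by
      rw [ht, ← pow_add, ← pow_orderOf_eq_one (A.x ^ m), ho]; congr 1; ring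
    have ht1 : t ≠ 1 := fun h => by
      have h1 := Nat.le_of_dvd (by positivity) (orderOf_dvd_of_pow_eq_one h)
      rw [ho] at h1
      have := Nat.two_pow_pos o
      rw [pow_succ, pow_succ] at h1
      omega
    obtain ⟨l, hl⟩ : ∃ l : ℤ, t = A.x ^ l := ⟨m * (2 * 2 ^ o : ℕ), by rw [ht, zpow_mul, zpow_natCast]⟩
    rw [hl] at ht1 ht2 ⊢
    rw [← zpow_add, A.zpow_eq_one_iff, ← two_mul, show (8 : ℤ) * A.q = 2 * (4 * A.q) by ring,
      mul_dvd_mul_iff_left two_ne_zero] at ht2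
    exact (A.rot_sq_cases ht2).resolve_left ht1
  have hpow : (c * A.x ^ m) ^ (2 * j) = A.z := by
    rw [((P.comm hc (zpow_mem A.xD m)).mul_pow _), pow_mul, pow_two, hc2, one_pow, one_mul, hj]
  have h1 : g * A.z * g⁻¹ = a ^ (2 * j) := by
    rw [← hpow, ← conj_pow, hg, (P.comm ha hb).mul_pow, pow_mul b, pow_two, hb2, one_pow, mul_one]
  have hzz : A.z * A.z = 1 := by
    rw [SD.z, ← zpow_add, A.zpow_eq_one_iff]; exact ⟨1, by ring⟩
  have h2 := hF A.z (zpow_mem A.xD _) hzz g (h1 ▸ P.leE (pow_mem ha _))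
  exact A.z_ne (conj_eq_one_iff.1 (P.eq_one (h1 ▸ pow_mem ha _) h2))

include T in
/-- The odd reflection, corrected by a central involution of the other factor, is conjugate to the
rotational root. -/
theorem exists_root_conj (hno : ∀ N : Subgroup G, N.Normal → N.index ≠ 2) (hE : InvClosed S P.E)
    (hF : InvClosed S P.F) (hT : ToCentral P.E) :
    ∃ e ∈ P.E, e * e = 1 ∧ (∀ q ∈ P.E, Commute q e) ∧
      IsConj (A.x ^ (1 : ℤ) * A.y * e) (A.x ^ (2 * (A.q : ℤ))) := by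
  obtain ⟨TB, hTr, hTs, hTz⟩ := exists_big_sd A
  set u := A.x ^ (1 : ℤ) * A.y with hu
  have huF : u ∈ P.F := A.refl_mem 1
  have huz : u * u = A.z := A.refl_sq_odd (by norm_num)
  have hzz : A.z * A.z = 1 := hTz ▸ TB.B.z_sq
  have hodd : Odd (S : Subgroup G).index := by
    haveI : Fact (Nat.Prime 2) := ⟨Nat.prime_two⟩
    have := S.not_dvd_index
    exact Nat.odd_iff.2 (by omega)
  have hWi : TB.W.relIndex P.F = 2 := by
    have h1 := (TB.W.subgroupOf P.F).index_mul_card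
    rw [Nat.card_congr (subgroupOfEquivOfLe TB.W_le).toEquiv, A.card_eq, TB.B.card_eq] at h1
    have hh : TB.B.h = 2 * A.q := by
      have h2 := TB.B.hr
      rw [hTr, show (2 : ℤ) = ((2 : ℕ) : ℤ) from rfl, zpow_natCast, orderOf_pow' _ two_ne_zero, A.hx,
        Nat.gcd_eq_right ⟨4 * A.q, by ring⟩] at h2
      omega
    rw [hh] at h1
    have := A.q_pos
    rw [relIndex]
    nlinarith
  obtain ⟨g, hg⟩ : ∃ g : G, g * u * g⁻¹ ∈ P.E ⊔ TB.W := by
    by_contra hcon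
    push Not at hcon
    obtain ⟨N, hN, hN2, -⟩ := CfsgLib.InvolFixFour.thompson_transfer_four (S : Subgroup G) (P.E ⊔ TB.W) hodd
      (P.relIndex_sup TB.W_le hWi) (u := u) (by
        rw [show (4 : ℕ) = 2 * 2 from rfl, pow_mul, pow_two u, huz, pow_two, hzz]) hcon fun g hg => by
      rw [huz] at hg ⊢
      exact mem_sup_right (TB.inv_mem _ (hF A.z (zpow_mem A.xD _) hzz g hg) (conj_sq hzz))
    exact hno N hN hN2
  obtain ⟨a, ha, b, hb, hab⟩ := (P.mem_sup le_rfl TB.W_le).1 hg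
  have hfz := P.fix_z A hF huz (sup_le P.hp.1 (fun _ h => P.leF (TB.W_le h)) hg)
  have hsq : a * a * (b * b) = 1 * A.z := by
    rw [one_mul, ← P.mul_mul ha (TB.W_le hb), ← hab, ← DihProd.conj_mul, huz, hfz]
  obtain ⟨ha2, hb2⟩ := P.uniq (mul_mem ha ha) (one_mem _) (mul_mem (TB.W_le hb) (TB.W_le hb))
    (zpow_mem A.xD _) hsq
  -- the rotational root
  obtain ⟨c, hc, hc2, hcc, hac⟩ := hT a ha ha2
  obtain ⟨k, hk, hkC⟩ := to_central S (P.central_inE hc hcc) hac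
  obtain ⟨-, hk'⟩ := P.map_root A hF (g := k) fun b' hb' _ =>
    hkC b' (P.leF hb') (P.comm ha hb').symm
  have hneg : IsConj (c * A.x ^ (-(2 * (A.q : ℤ)))) (c * A.x ^ (2 * (A.q : ℤ))) :=
    (isConj_iff.2 ⟨A.y, by
      rw [DihProd.conj_mul, A.y_conj_root, (P.comm hc A.yD).symm.eq, mul_inv_cancel_right]⟩).symm
  have hkb : k * b * k⁻¹ = A.x ^ (2 * (A.q : ℤ)) ∨ k * b * k⁻¹ = A.x ^ (-(2 * (A.q : ℤ))) := by
    obtain ⟨i, rfl | rfl⟩ := TB.B.cases b hb
    swap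
    · exact absurd (hb2.symm.trans (TB.B.refl_sq i)) A.z_ne
    rw [hTr, ← zpow_mul] at hb2 ⊢
    rcases A.root_eq hb2 with e | e <;> rw [e]
    · exact hk'
    · rw [zpow_neg, ← conj_inv]
      rcases hk' with e' | e' <;> rw [e']
      · exact Or.inr rfl
      · rw [← zpow_neg, neg_neg]; exact Or.inl rfl
  have hconj : IsConj u (c * A.x ^ (2 * (A.q : ℤ))) := by
    refine (isConj_iff.2 ⟨g, hab⟩).trans ((isConj_iff.2 ⟨k, DihProd.conj_mul k a b⟩).trans ?_)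
    rw [hk]
    rcases hkb with e | e <;> rw [e]
    exact hneg
  have hm : A.x ^ (2 * (A.q : ℤ)) * A.x ^ (2 * (A.q : ℤ)) ≠ 1 := by rw [A.root_sq]; exact A.z_ne
  obtain ⟨h, hh, hhC⟩ := P.rot_extremal A hF hc hcc hc2 hm hconj
  have hhE : ∀ a ∈ P.E, a * a = 1 → h * a * h⁻¹ ∈ (S : Subgroup G) := fun a ha _ =>
    hhC a (P.leE ha) (P.comm ha huF)
  obtain ⟨w, hw, hwc⟩ := hE.map_W_surj T hhE (T.inv_mem c hc hc2)
  have hwcen : w * w = 1 ∧ ∀ q ∈ P.E, Commute q w := by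
    refine T.cent w (T.W_le hw) fun v hv => ?_
    have h1 := DihProd.commute_conj h⁻¹ (hcc _ (T.W_le (hE.map_W T hhE hv)))
    rw [← hwc] at h1
    simpa [mul_assoc] using h1
  refine ⟨w, T.W_le hw, hwcen.1, hwcen.2, isConj_iff.2 ⟨h, ?_⟩⟩
  rw [DihProd.conj_mul, hh, hwc, mul_assoc, ((P.comm hc (zpow_mem A.xD _)).symm).eq, ← mul_assoc, hc2, one_mul]

end Pair

end CfsgLib.SDProd
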