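import Cfsg.Agent.SDProd.Order4

/-!
Strong closure of a semidihedral factor whose odd reflection is conjugate to the rotational root.
-/

set_option autoImplicit false
set_option linter.unusedSectionVars false
set_option linter.style.haveILetI false

namespace CfsgLib.SDProd

open Subgroup
open CfsgLib.DihProd (IsCentralIn conj_sq to_central commute_conj normalizer_mem)

universe u

variable {G : Type u} [Group G] [Finite G] {S : Sylow 2 G}

theorem norm_of_le {H : Subgroup G} {g : G} (h : H.map (MulAut.conj g).toMonoidHom ≤ H) :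
    g ∈ normalizer (H : Set G) := by
  refine mem_normalizer_iff.2 fun x => ⟨fun hx => h ⟨x, hx, rfl⟩, fun hx => ?_⟩
  have he := eq_of_le_of_card_ge h (card_map_of_injective (MulAut.conj g).injective).ge
  rw [← he] at hx
  obtain ⟨y, hy, e⟩ := hx
  exact (MulAut.conj g).injective e ▸ hy

/-- Elements of a Sylow subgroup of `H` lie in the normaliser-product with a normal subgroup above it. -/
theorem frattini {S₀ M H : Subgroup G} (hSM : S₀ ≤ M) (hMH : M ≤ H) (hS : IsPGroup 2 S₀)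
    (hidx : ¬ 2 ∣ S₀.relIndex H) (hM : ∀ h ∈ H, ∀ m ∈ M, h * m * h⁻¹ ∈ M) {h : G} (hh : h ∈ H) :
    ∃ m ∈ M, ∃ n ∈ normalizer (S₀ : Set G), h = m * n := by
  have hidx' : ¬ 2 ∣ S₀.relIndex M := fun e =>
    hidx (e.trans ⟨M.relIndex H, (relIndex_mul_relIndex S₀ M H hSM hMH).symm⟩)
  obtain ⟨c, hc, hcU⟩ := CfsgLib.Fusion.exists_conj_le_of_sylow_relIndex hSM hS hidx'
    (hS.map (MulAut.conj h).toMonoidHom) (by rintro _ ⟨s, hs, rfl⟩; exact hM h hh s (hSM hs))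
  refine ⟨c⁻¹, inv_mem hc, c * h, norm_of_le ?_, (inv_mul_cancel_left c h).symm⟩
  rintro _ ⟨s, hs, rfl⟩
  refine hcU ?_
  rw [CfsgLib.SZ.mem_conj_smul]
  exact ⟨s, hs, by simp [mul_assoc]⟩

namespace SD

variable {D : Subgroup G} (A : SD D)

theorem four_sq {m : ℤ} (h : A.x ^ m * A.x ^ m * (A.x ^ m * A.x ^ m) = 1) :
    A.x ^ m * A.x ^ m = 1 ∨ A.x ^ m * A.x ^ m = A.z := by
  rw [← zpow_add] at h ⊢
  rw [← zpow_add, A.zpow_eq_one_iff, show m + m + (m + m) = 2 * (m + m) by ring,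
    show (8 : ℤ) * A.q = 2 * (4 * A.q) by ring, mul_dvd_mul_iff_left two_ne_zero] at h
  exact A.rot_sq_cases h

theorem sq_cases {b : G} (hb : b ∈ D) (h : b * b * (b * b) = 1) : b * b = 1 ∨ b * b = A.z := by
  obtain ⟨i, rfl | rfl⟩ := A.cases b hb
  · exact A.four_sq h
  · exact A.refl_pow_cases

theorem zz : A.z * A.z = 1 := by
  rw [SD.z, ← zpow_add, A.zpow_eq_one_iff]; exact ⟨1, by ring⟩

theorem zpowers_odd {a : G} {i : ℤ} (ha : Commute a A.x) (ha2 : a * a = 1) (hi : ¬ 2 ∣ i) :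
    zpowers (a * A.x ^ i) = zpowers (a * A.x) := by
  have hai : a ^ i = a := by
    obtain ⟨c, hc⟩ := Int.odd_iff.2 (by omega : i % 2 = 1)
    rw [hc, zpow_add, zpow_mul, zpow_two, ha2, one_zpow, one_mul, zpow_one]
  have hord : orderOf (a * A.x) ∣ 8 * A.q := by
    refine orderOf_dvd_of_pow_eq_one ?_
    rw [ha.mul_pow, ← A.hx, pow_orderOf_eq_one, mul_one, A.hx, show 8 * A.q = 2 * (4 * A.q) by ring,
      pow_mul, pow_two, ha2, one_pow]
  refine le_antisymm (zpowers_le.2 ⟨i, (ha.mul_zpow i).trans (by rw [hai])⟩) (zpowers_le.2 ?_)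
  obtain ⟨u, v, huv⟩ : IsCoprime i (8 * (A.q : ℤ)) := by
    have h2 : IsCoprime i 2 := ((Int.prime_two.coprime_iff_not_dvd).2 hi).symm
    rw [A.hq, Nat.cast_pow, show (8 : ℤ) * ((2 : ℕ) : ℤ) ^ A.k = 2 ^ (A.k + 3) by push_cast; ring]
    exact h2.pow_right
  refine ⟨u, ?_⟩
  show (a * A.x ^ i) ^ u = a * A.x
  have h1 : (a * A.x) ^ (8 * (A.q : ℤ)) = 1 := by
    rw [← orderOf_dvd_iff_zpow_eq_one]
    exact_mod_cast hord
  rw [show a * A.x ^ i = (a * A.x) ^ i by rw [ha.mul_zpow, hai], ← zpow_mul,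
    show i * u = 1 - v * (8 * (A.q : ℤ)) by linarith, zpow_sub, zpow_one, mul_comm v, zpow_mul, h1, one_zpow,
    inv_one, mul_one]

end SD

namespace Pair

variable (P : Pair S) (T : Factor P.E) (A : SD P.F)

theorem roots_conj (hroot : IsConj (A.x ^ (1 : ℤ) * A.y) (A.x ^ (2 * (A.q : ℤ)))) {b : G} (hb : b ∈ P.F)
    (hb2 : b * b = A.z) : IsConj b (A.x ^ (2 * (A.q : ℤ))) := by
  obtain ⟨i, rfl | rfl⟩ := A.cases b hb
  · rcases A.root_eq hb2 with e | e <;> rw [e]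
    exact (isConj_iff.2 ⟨A.y, A.y_conj_root⟩).symm
  · obtain ⟨k, rfl⟩ : ∃ k, i = 2 * k + 1 := Int.odd_iff.2 (by
      by_contra h
      exact A.z_ne (hb2.symm.trans (A.refl_sq_one_iff.2 (by omega))))
    refine IsConj.trans (IsConj.symm (isConj_iff.2 ⟨A.x ^ (k * (1 - 2 * (A.q : ℤ))), ?_⟩)) hroot
    rw [A.rot_refl, ← zpow_neg, A.refl_rot, mul_left_inj, A.zpow_eq_iff]
    exact ⟨k * ((A.q : ℤ) - 1), by ring⟩

include T in
/-- The rotational root and its product with a central involution are not conjugate. -/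
theorem root_not_conj (hE : InvClosed S P.E) (hF : InvClosed S P.F) {c : G} (hc : c ∈ P.E)
    (hcc : ∀ q ∈ P.E, Commute q c) (hc2 : c * c = 1) {l : ℤ} (hl : A.x ^ l * A.x ^ l = A.z)
    (h : IsConj (A.x ^ (2 * (A.q : ℤ))) (c * A.x ^ l)) : c = 1 := by
  obtain ⟨g, hg, hgC⟩ := P.rot_extremal A hF hc hcc hc2 (m := l) (hl ▸ A.z_ne) h
  have hr := zpow_mem A.xD (2 * (A.q : ℤ))
  have hgE : ∀ a ∈ P.E, a * a = 1 → g * a * g⁻¹ ∈ (S : Subgroup G) := fun a ha _ =>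
    hgC a (P.leE ha) (P.comm ha hr)
  obtain ⟨p, hp, b, hb, hpb⟩ := P.split (hgC A.x (P.leF A.xD) ((Commute.refl A.x).zpow_right _))
  obtain ⟨hp2, -⟩ := hE.cent_image T hgE hp fun w hw => by
    have h1 := commute_conj g (P.comm (T.W_le hw) A.xD)
    rw [hpb, show g * w * g⁻¹ = g * w * g⁻¹ * 1 from (mul_one _).symm,
      P.comm_iff (T.W_le (hE.map_W T hgE hw)) hp (one_mem _) hb] at h1
    exact h1.1
  rw [← conj_zpow, hpb, (P.comm hp hb).mul_zpow, zpow_mul p, zpow_two, hp2, one_zpow] at hg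
  exact (P.uniq (one_mem _) hc (zpow_mem hb _) (zpow_mem A.xD l) hg).1.symm

include T in
theorem roots_closed (hroot : IsConj (A.x ^ (1 : ℤ) * A.y) (A.x ^ (2 * (A.q : ℤ)))) (hE : InvClosed S P.E)
    (hF : InvClosed S P.F) (hT : ToCentral P.E) {b : G} (hb : b ∈ P.F) (hb2 : b * b = A.z) {g : G}
    (hg : g * b * g⁻¹ ∈ (S : Subgroup G)) : g * b * g⁻¹ ∈ P.F := by
  obtain ⟨a, ha, b', hb', hab⟩ := P.split hg
  have hsq : a * a * (b' * b') = 1 * A.z := by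
    rw [one_mul, ← P.mul_mul ha hb', ← hab, ← DihProd.conj_mul, hb2, P.fix_z A hF hb2 hg]
  obtain ⟨ha2, hb'2⟩ := P.uniq (mul_mem ha ha) (one_mem _) (mul_mem hb' hb') (zpow_mem A.xD _) hsq
  by_cases ha1 : a = 1
  · rw [hab, ha1, one_mul]; exact hb'
  exfalso
  have hy : IsConj (a * b') (1 * A.x ^ (2 * (A.q : ℤ))) := by
    rw [one_mul]; exact (isConj_iff.2 ⟨g, hab⟩).symm.trans (P.roots_conj A hroot hb hb2)
  obtain ⟨h, hh, hhC⟩ := P.rot_extremal A hF (one_mem _) (fun q _ => Commute.one_right q) (one_mul 1)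
    (by rw [A.root_sq]; exact A.z_ne) hy
  rw [one_mul] at hh
  have haS := hhC a (P.leE ha) ((Commute.refl a).mul_right (P.comm ha hb'))
  have ha'E := hE a ha ha2 h haS
  set a' := h * a * h⁻¹ with ha'def
  have ha'2 : a' * a' = 1 := conj_sq ha2
  have hb'e : h * b' * h⁻¹ = a' * A.x ^ (2 * (A.q : ℤ)) := by
    have h2 : a' * (h * b' * h⁻¹) = A.x ^ (2 * (A.q : ℤ)) := by rw [← DihProd.conj_mul, hh]
    conv_rhs => rw [← h2, ← mul_assoc, ha'2, one_mul]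
  have h1 : IsConj (A.x ^ (2 * (A.q : ℤ))) (a' * A.x ^ (2 * (A.q : ℤ))) :=
    (P.roots_conj A hroot hb' hb'2).symm.trans (isConj_iff.2 ⟨h, hb'e⟩)
  obtain ⟨c, hc, hc2, hcc, hac⟩ := hT a' ha'E ha'2
  obtain ⟨k, hk, hkC⟩ := to_central S (P.central_inE hc hcc) hac
  obtain ⟨-, hkr⟩ := P.map_root A hF (g := k) fun u hu _ => hkC u (P.leF hu) (P.comm ha'E hu).symm
  obtain ⟨l, hl, hlr⟩ : ∃ l : ℤ, A.x ^ l * A.x ^ l = A.z ∧ k * A.x ^ (2 * (A.q : ℤ)) * k⁻¹ = A.x ^ l := by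
    rcases hkr with e | e
    · exact ⟨_, A.root_sq, e⟩
    · refine ⟨_, ?_, e⟩
      rw [← zpow_add, SD.z, A.zpow_eq_iff]; exact ⟨-1, by ring⟩
  have h3 : c = 1 := P.root_not_conj T A hE hF hc hcc hc2 hl
    (h1.trans (isConj_iff.2 ⟨k, by rw [DihProd.conj_mul, hk, hlr]⟩))
  exact ha1 (conj_eq_one_iff.1 (conj_eq_one_iff.1 (hk.trans h3) : a' = 1))

include T in
/-- A semidihedral factor is strongly closed. -/
theorem sd_closed (hroot : IsConj (A.x ^ (1 : ℤ) * A.y) (A.x ^ (2 * (A.q : ℤ)))) (hE : InvClosed S P.E)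
    (hF : InvClosed S P.F) (hT : ToCentral P.E) : Cfsg.IsStronglyClosed P.F (S : Subgroup G) := by
  haveI : Fact (Nat.Prime 2) := ⟨Nat.prime_two⟩
  refine ⟨P.hp.2.1, fun b hb g hg => ?_⟩
  induction hn : orderOf b using Nat.strong_induction_on generalizing b g with
  | _ n ih =>
  by_cases h1 : b * b = 1
  · exact hF b hb h1 g hg
  by_cases h2 : b * b = A.z
  · exact P.roots_closed T A hroot hE hF hT hb h2 hg
  have h4 : b * b * (b * b) ≠ 1 := fun h => (A.sq_cases hb h).elim h1 h2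
  obtain ⟨m, rfl⟩ : ∃ m : ℤ, b = A.x ^ m := by
    obtain ⟨i, e | e⟩ := A.cases b hb
    · exact ⟨i, e⟩
    · subst e; exact absurd A.refl_pow_cases (not_or.2 ⟨h1, h2⟩)
  -- the square stays in the factor
  obtain ⟨a, ha, b', hb', hab⟩ := P.split hg
  have hsq : g * (A.x ^ m * A.x ^ m) * g⁻¹ = a * a * (b' * b') := by
    rw [DihProd.conj_mul, hab, P.mul_mul ha hb']
  have hlt : orderOf (A.x ^ m * A.x ^ m) < n := by
    obtain ⟨k, hk⟩ : ∃ k, orderOf (A.x ^ m) = 2 ^ k := by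
      obtain ⟨k, hk⟩ := S.isPGroup' ⟨A.x ^ m, P.leF hb⟩
      obtain ⟨j, -, hj⟩ := (Nat.dvd_prime_pow Nat.prime_two).1
        (orderOf_dvd_of_pow_eq_one (show (A.x ^ m) ^ 2 ^ k = 1 by simpa using congrArg Subtype.val hk))
      exact ⟨j, hj⟩
    rcases k with _ | k
    · exact absurd (by rw [orderOf_eq_one_iff.1 hk, mul_one]) h1
    have h3 : (A.x ^ m * A.x ^ m) ^ 2 ^ k = 1 := by
      rw [← sq, ← pow_mul, ← pow_succ', ← hk, pow_orderOf_eq_one]
    have h5 := Nat.le_of_dvd (Nat.two_pow_pos k) (orderOf_dvd_of_pow_eq_one h3)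
    rw [← hn, hk, pow_succ]
    have := Nat.two_pow_pos k
    omega
  have ha2 : a * a = 1 := by
    have h5 := ih _ hlt _ (mul_mem hb hb) g (by rw [hsq]; exact P.mem (mul_mem ha ha) (mul_mem hb' hb')) rfl
    rw [hsq, mul_mem_cancel_right (mul_mem hb' hb')] at h5
    exact P.eq_one (mul_mem ha ha) h5
  by_cases ha1 : a = 1
  · rw [hab, ha1, one_mul]; exact hb'
  exfalso
  rw [ha2, one_mul] at hsq
  have hne4 : b' * b' * (b' * b') ≠ 1 := fun h => h4 (conj_eq_one_iff.1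
    (show g * (A.x ^ m * A.x ^ m * (A.x ^ m * A.x ^ m)) * g⁻¹ = 1 by rw [DihProd.conj_mul, hsq, h]))
  obtain ⟨m', rfl⟩ : ∃ m' : ℤ, b' = A.x ^ m' := by
    obtain ⟨i, e | e⟩ := A.cases b' hb'
    · exact ⟨i, e⟩
    · subst e; rcases A.refl_pow_cases (i := i) with e | e <;> rw [e] at hne4
      exacts [absurd (one_mul 1) hne4, absurd A.zz hne4]
  -- move `a` to the centre
  obtain ⟨c, hc, hc2, hcc, hac⟩ := hT a ha ha2
  obtain ⟨k, hk, hkC⟩ := to_central S (P.central_inE hc hcc) hac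
  have hkF : ∀ u ∈ P.F, k * u * k⁻¹ ∈ (S : Subgroup G) := fun u hu => hkC u (P.leF hu) (P.comm ha hu).symm
  have hkx : k * A.x * k⁻¹ ∈ P.F := by
    have e1 := P.roots_closed T A hroot hE hF hT (A.refl_mem 1) (A.refl_sq_odd (by norm_num))
      (hkF _ (A.refl_mem 1))
    have e2 := hF A.y A.yD A.yy k (hkF _ A.yD)
    have e3 := mul_mem e1 e2
    rwa [← DihProd.conj_mul, mul_assoc (A.x ^ (1 : ℤ)), A.yy, mul_one, zpow_one] at e3
  have hkm : k * A.x ^ m' * k⁻¹ ∈ P.F := by rw [← conj_zpow]; exact zpow_mem hkx _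
  obtain ⟨i, hi | hi⟩ := A.cases _ hkm
  swap
  · refine hne4 (conj_eq_one_iff.1 (show k * _ * k⁻¹ = 1 from ?_))
    rw [DihProd.conj_mul, DihProd.conj_mul, hi]
    rcases A.refl_pow_cases (i := i) with e | e <;> rw [e]
    exacts [one_mul 1, A.zz]
  have hc1 : c ≠ 1 := fun h => ha1 (conj_eq_one_iff.1 (hk.trans h))
  have hy : IsConj (c * A.x ^ i) (1 * A.x ^ m) := by
    rw [one_mul]
    exact ((isConj_iff.2 ⟨g, hab⟩).trans (isConj_iff.2 ⟨k, by rw [DihProd.conj_mul, hk, hi]⟩)).symm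
  obtain ⟨h, hh, hhC⟩ := P.rot_extremal A hF (one_mem _) (fun q _ => Commute.one_right q) (one_mul 1) h1 hy
  rw [one_mul] at hh
  -- `h` normalises `E × ⟨x⟩`
  set P₀ := P.E ⊔ zpowers A.x with hP₀
  have hxF : zpowers A.x ≤ P.F := zpowers_le.2 A.xD
  have hP₀S : P₀ ≤ (S : Subgroup G) := sup_le P.hp.1 (hxF.trans P.hp.2.1)
  have hxP : A.x ∈ P₀ := mem_sup_right (mem_zpowers _)
  have hcomP : ∀ q ∈ P₀, Commute q (c * A.x ^ i) := by
    intro q hq
    obtain ⟨q1, hq1, q2, hq2, rfl⟩ := (P.mem_sup le_rfl hxF).1 hq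
    obtain ⟨s, rfl⟩ := mem_zpowers_iff.1 hq2
    exact (P.comm_iff hq1 hc (zpow_mem A.xD s) (zpow_mem A.xD i)).2
      ⟨hcc q1 hq1, Commute.zpow_zpow_self A.x s i⟩
  have hxm : A.x ^ m ≠ 1 ∧ A.x ^ m ≠ A.z := by
    refine ⟨fun e => h1 (by rw [e, one_mul]), fun e => h1 (by rw [e, A.zz])⟩
  have hhP : h ∈ normalizer (P₀ : Set G) := by
    refine norm_of_le ?_
    rintro _ ⟨q, hq, rfl⟩
    show h * q * h⁻¹ ∈ P₀
    have h5 := commute_conj h (hcomP q hq)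
    rw [hh] at h5
    obtain ⟨q1, hq1, q2, hq2, e⟩ := P.split (hhC q (hP₀S hq) (hcomP q hq))
    rw [e] at h5 ⊢
    rw [show A.x ^ m = 1 * A.x ^ m from (one_mul _).symm, P.comm_iff hq1 (one_mem _) hq2 hb] at h5
    obtain ⟨s, rfl | rfl⟩ := A.cases q2 hq2
    · exact mul_mem_sup hq1 (zpow_mem (mem_zpowers _) s)
    · exact absurd (A.rot_comm_refl h5.2.symm) (not_or.2 hxm)
  -- the kernel of the action on the cyclic complements
  let Fam : G → Prop := fun p => p ∈ P.E ∧ p * p = 1 ∧ ∀ q ∈ P.E, Commute q p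
  let M : Subgroup G := normalizer (P₀ : Set G) ⊓
    ⨅ p : {p : G // Fam p}, normalizer ((zpowers ((p : G) * A.x)) : Set G)
  have hPE : P.E ≤ P₀ := le_sup_left
  have hSN : (S : Subgroup G) ≤ normalizer (P₀ : Set G) := by
    intro s hs
    refine norm_of_le ?_
    rintro _ ⟨q, hq, rfl⟩
    show s * q * s⁻¹ ∈ P₀
    obtain ⟨s1, hs1, s2, hs2, rfl⟩ := P.split hs
    obtain ⟨q1, hq1, q2, hq2, rfl⟩ := (P.mem_sup le_rfl hxF).1 hq
    rw [show s1 * s2 * (q1 * q2) * (s1 * s2)⁻¹ = s1 * (s2 * q1 * s2⁻¹) * (s2 * q2 * s2⁻¹) * s1⁻¹ by group,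
      (P.comm hq1 hs2).symm.eq, mul_inv_cancel_right]
    refine mul_mem (mul_mem (mul_mem (hPE hs1) (hPE hq1)) (mem_sup_right ?_)) (inv_mem (hPE hs1))
    obtain ⟨t, rfl⟩ := mem_zpowers_iff.1 hq2
    rw [← conj_zpow]
    refine zpow_mem ?_ _
    obtain ⟨j, rfl | rfl⟩ := A.cases s2 hs2
    · rw [((Commute.refl A.x).zpow_left j).eq, mul_inv_cancel_right]; exact mem_zpowers _
    · rw [show A.x ^ j * A.y * A.x * (A.x ^ j * A.y)⁻¹ = A.x ^ j * (A.y * A.x * A.y⁻¹) * (A.x ^ j)⁻¹ by group,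
        A.hxy]
      exact mul_mem (mul_mem (zpow_mem (mem_zpowers _) _) (zpow_mem (mem_zpowers _) _))
        (inv_mem (zpow_mem (mem_zpowers _) _))
  have hSM : (S : Subgroup G) ≤ M := by
    intro s hs
    refine ⟨hSN hs, mem_iInf.2 fun ⟨p, hpE, hp2, hpc⟩ => norm_of_le ?_⟩
    rintro _ ⟨q, ⟨t, rfl⟩, rfl⟩
    show s * (p * A.x) ^ t * s⁻¹ ∈ zpowers (p * A.x)
    rw [← conj_zpow]
    refine zpow_mem ?_ _
    obtain ⟨s1, hs1, s2, hs2, rfl⟩ := P.split hs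
    have hpx := P.comm hpE A.xD
    obtain ⟨j, rfl | rfl⟩ := A.cases s2 hs2
    · have hcm : Commute (s1 * A.x ^ j) (p * A.x) :=
        (P.comm_iff hs1 hpE (zpow_mem A.xD j) A.xD).2 ⟨hpc _ hs1, (Commute.refl A.x).zpow_left j⟩
      rw [hcm.eq, mul_inv_cancel_right]; exact mem_zpowers _
    · have h5 : s1 * (A.x ^ j * A.y) * (p * A.x) * (s1 * (A.x ^ j * A.y))⁻¹ =
          p * A.x ^ (4 * (A.q : ℤ) - 1) := by
        rw [mul_inv_eq_iff_eq_mul, P.mul_mul hpE (A.refl_mem j), P.mul_mul hs1 (zpow_mem A.xD _),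
          (hpc s1 hs1).eq, A.rot_refl]
        congr 1
        simpa [add_comm] using A.refl_rot j 1
      rw [h5, ← SD.zpowers_odd A hpx hp2 (i := 4 * (A.q : ℤ) - 1) (by omega)]
      exact mem_zpowers _
  have hfam : ∀ n ∈ normalizer (P₀ : Set G), ∀ p, Fam p → ∃ p', Fam p' ∧
      (zpowers (p * A.x)).map (MulAut.conj n).toMonoidHom = zpowers (p' * A.x) := by
    rintro n hn p ⟨hpE, hp2, hpc⟩
    have hpxP : p * A.x ∈ P₀ := mul_mem (hPE hpE) hxP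
    obtain ⟨a1, ha1', b1, hb1, e⟩ := (P.mem_sup le_rfl hxF).1 ((mem_normalizer_iff.1 hn _).1 hpxP)
    obtain ⟨s, rfl⟩ := mem_zpowers_iff.1 hb1
    have hcen : ∀ q ∈ P.E, Commute q a1 := by
      intro q hq
      obtain ⟨q', hq', hq'e⟩ : ∃ q' ∈ P₀, n * q' * n⁻¹ = q :=
        ⟨n⁻¹ * q * n, by simpa using (mem_normalizer_iff.1 (inv_mem hn) q).1 (hPE hq), by group⟩
      obtain ⟨q1, hq1, q2, hq2, rfl⟩ := (P.mem_sup le_rfl hxF).1 hq'
      obtain ⟨t, rfl⟩ := mem_zpowers_iff.1 hq2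
      have h6 := commute_conj n
        ((P.comm_iff hq1 hpE (zpow_mem A.xD t) A.xD).2 ⟨hpc q1 hq1, (Commute.refl A.x).zpow_left t⟩)
      rw [hq'e, e, show q = q * 1 from (mul_one q).symm, P.comm_iff hq ha1' (one_mem _) (zpow_mem A.xD s)] at h6
      exact h6.1
    have ha12 := (T.cent a1 ha1' fun w hw => hcen w (T.W_le hw)).1
    refine ⟨a1, ⟨ha1', ha12, hcen⟩, ?_⟩
    have hs : ¬ 2 ∣ s := by
      rintro ⟨t, rfl⟩
      have h6 := congrArg (· ^ (4 * A.q)) e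
      simp only [conj_pow] at h6
      rw [(P.comm hpE A.xD).mul_pow, (P.comm ha1' (zpow_mem A.xD _)).mul_pow, pow_mul p, pow_mul a1,
        show p ^ 4 = 1 by rw [pow_succ, pow_succ, pow_two, hp2, one_mul, hp2],
        show a1 ^ 4 = 1 by rw [pow_succ, pow_succ, pow_two, ha12, one_mul, ha12],
        one_pow, one_mul, one_mul, ← zpow_natCast, ← zpow_natCast, ← zpow_mul] at h6
      rw [show A.x ^ (2 * t * ((4 * A.q : ℕ) : ℤ)) = 1 from A.zpow_eq_one_iff.2 ⟨t, by push_cast; ring⟩,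
        conj_eq_one_iff] at h6
      exact A.z_ne (by rw [SD.z]; exact_mod_cast h6)
    rw [MonoidHom.map_zpowers]
    show zpowers (n * (p * A.x) * n⁻¹) = _
    rw [e, SD.zpowers_odd A (P.comm ha1' A.xD) ha12 hs]
  have hMn : ∀ n ∈ normalizer (P₀ : Set G), ∀ u ∈ M, n * u * n⁻¹ ∈ M := by
    intro n hn u hu
    refine ⟨Subgroup.mul_mem _ (Subgroup.mul_mem _ hn (Subgroup.mem_inf.1 hu).1) (Subgroup.inv_mem _ hn), mem_iInf.2 fun ⟨p, hp⟩ => norm_of_le ?_⟩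
    obtain ⟨p', hp', e⟩ := hfam n⁻¹ (inv_mem hn) p hp
    rintro _ ⟨q, hq, rfl⟩
    show n * u * n⁻¹ * q * (n * u * n⁻¹)⁻¹ ∈ zpowers (p * A.x)
    have hq' : n⁻¹ * q * n ∈ zpowers (p' * A.x) := e ▸ ⟨q, hq, by simp⟩
    have h6 := (mem_normalizer_iff.1 (mem_iInf.1 hu.2 ⟨p', hp'⟩) _).1 hq'
    rw [← e] at h6
    obtain ⟨r, hr, er⟩ := h6
    rw [show n * u * n⁻¹ * q * (n * u * n⁻¹)⁻¹ = r by
      have er' : n⁻¹ * r * n⁻¹⁻¹ = u * (n⁻¹ * q * n) * u⁻¹ := er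
      rw [show n * u * n⁻¹ * q * (n * u * n⁻¹)⁻¹ = n * (u * (n⁻¹ * q * n) * u⁻¹) * n⁻¹ by group, ← er']
      group]
    exact hr
  have hidx : ¬ 2 ∣ (S : Subgroup G).relIndex (normalizer (P₀ : Set G)) := fun e =>
    S.not_dvd_index (e.trans (relIndex_dvd_index_of_le hSN))
  obtain ⟨u, hu, n, hn, hun⟩ := frattini hSM inf_le_left S.2 hidx hMn hhP
  have hnP : n ∈ normalizer (P₀ : Set G) := by
    rw [show n = u⁻¹ * h by rw [hun, inv_mul_cancel_left]]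
    exact mul_mem (inv_mem (Subgroup.mem_inf.1 hu).1) hhP
  have hnx : n * A.x * n⁻¹ ∈ zpowers A.x := by
    have e1 := P.roots_closed T A hroot hE hF hT (A.refl_mem 1) (A.refl_sq_odd (by norm_num))
      (normalizer_mem S hn (P.leF (A.refl_mem 1)))
    have e2 := hF A.y A.yD A.yy n (normalizer_mem S hn (P.leF A.yD))
    have e3 := mul_mem e1 e2
    rw [← DihProd.conj_mul, mul_assoc (A.x ^ (1 : ℤ)), A.yy, mul_one, zpow_one] at e3
    obtain ⟨q1, hq1, q2, hq2, e⟩ := (P.mem_sup le_rfl hxF).1 ((mem_normalizer_iff.1 hnP _).1 hxP)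
    have := (P.uniq hq1 (one_mem _) (hxF hq2) e3 (e.symm.trans (one_mul _).symm)).1
    rw [e, this, one_mul]; exact hq2
  have hhx : h * A.x * h⁻¹ ∈ zpowers A.x := by
    have h6 := (mem_normalizer_iff.1 (mem_iInf.1 hu.2
      ⟨1, one_mem _, one_mul 1, fun q _ => Commute.one_right q⟩) (n * A.x * n⁻¹)).1
    rw [one_mul] at h6
    rw [hun, show u * n * A.x * (u * n)⁻¹ = u * (n * A.x * n⁻¹) * u⁻¹ by group]
    exact h6 hnx
  have hh' : (h * c * h⁻¹) * (h * A.x ^ i * h⁻¹) = 1 * A.x ^ m := by rw [← DihProd.conj_mul, hh, one_mul]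
  have hcE := hE c hc hc2 h (hhC c (P.leE hc) (hcomP c (hPE hc)))
  exact hc1 (conj_eq_one_iff.1 (P.uniq hcE (one_mem _) (by rw [← conj_zpow]; exact hxF (zpow_mem hhx i)) hb hh').1)

end Pair

end CfsgLib.SDProd
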